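import Cfsg.Agent.OddOrder.CN.MinSimple
import Cfsg.Agent.OddOrder.PF12.Partition
import Cfsg.Agent.H42.CNQuot

/-!
# The CN-theorem for odd order
-/

set_option autoImplicit false
set_option linter.style.haveILetI false
set_option linter.unusedSectionVars false

namespace Cfsg.Agent.OddOrder.CN

open Subgroup

variable {G : Type*} [Group G] [Finite G]

theorem member (hG : Cfsg.IsMinSimpleOddOrder G) (hCN : Cfsg.IsCNGroup G) {H : Subgroup G}
    (hH : IsMaxNil H) : PF12.Member (normalizer (H : Set G)) H where
  lt := lt_of_le_of_ne le_normalizer (normalizer_maxNil_ne_self hG hCN hH).symm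
  ne_bot := ne_bot hG hH
  normal x hx h hh := (mem_normalizer_iff.mp hx h).mp hh
  frob h hh h1 := inf_le_right.trans (centralizer_le_maxNil hG hCN hH hh h1)
  ti g hg x hx hgx := by
    by_contra hx1
    exact hg (mem_normalizer_of_mem hG hCN hH hx1 hx hgx)
  normalizer_eq := rfl

theorem isNilpotent_zpowers (g : G) : Group.IsNilpotent (zpowers g) := by
  open scoped IsMulCommutative in exact CommGroup.isNilpotent

/-- No minimal simple group of odd order is a CN-group. -/
theorem not_minSimple (hG : Cfsg.IsMinSimpleOddOrder G) (hCN : Cfsg.IsCNGroup G) : False := by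
  classical
  haveI := Fintype.ofFinite G
  let s : Setoid {H : Subgroup G // IsMaxNil H} :=
    { r := fun a b => ∃ g : G, b.1 = a.1.map (MulAut.conj g).toMonoidHom
      iseqv :=
        { refl := fun a => ⟨1, by ext x; rw [mem_conj_map]; simp⟩
          symm := fun {a b} ⟨g, hg⟩ => ⟨g⁻¹, by
            ext x; rw [mem_conj_map, hg, mem_conj_map]; simp [mul_assoc]⟩
          trans := fun {a b c} ⟨g, hg⟩ ⟨g', hg'⟩ => ⟨g' * g, by
            ext x; rw [hg', mem_conj_map, hg, mem_conj_map, mem_conj_map]; simp [mul_assoc]⟩ } }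
  haveI : Fintype (Quotient s) := Fintype.ofFinite _
  obtain ⟨H₀, hH₀, -⟩ := exists_isMaxNil_ge (isNilpotent_zpowers (1 : G))
  haveI : Nonempty (Quotient s) := ⟨Quotient.mk s ⟨H₀, hH₀⟩⟩
  refine PF12.no_partition hG.1 (fun i : Quotient s => member hG hCN i.out.2) ?_ ?_
  · intro i j hij
    rcases conj_or_coprime hG hCN i.out.2 j.out.2 with ⟨g, hg⟩ | h
    · exfalso
      apply hij
      rw [← Quotient.out_eq i, ← Quotient.out_eq j]
      exact Quotient.sound ⟨g, hg⟩
    · exact h
  · intro g _
    obtain ⟨H, hH, hgH⟩ := exists_isMaxNil_ge (isNilpotent_zpowers g)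
    obtain ⟨a, ha⟩ := Quotient.mk_out (s := s) ⟨H, hH⟩
    refine ⟨Quotient.mk s ⟨H, hH⟩, a⁻¹, ?_⟩
    have h1 : g ∈ H := hgH (mem_zpowers g)
    simp only at ha
    rw [ha, mem_conj_map] at h1
    simpa using h1

/-- A group of odd order in which centralisers of non-identity elements are nilpotent is
solvable. -/
theorem isSolvable_of_cn : ∀ (n : ℕ) (G : Type*) [Group G] [Finite G], Nat.card G ≤ n →
    Odd (Nat.card G) → Cfsg.IsCNGroup G → Group.IsSolvable G := by
  intro n
  induction n with
  | zero =>
    intro G _ _ h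
    exact absurd h (Nat.card_pos (α := G)).ne'.bot_lt.not_ge
  | succ n ih =>
    intro G _ _ hcard hodd hCN
    by_contra hns
    have hlt : ∀ H : Subgroup G, H ≠ ⊤ → Nat.card H < Nat.card G := fun H hH =>
      lt_of_le_of_ne (Nat.le_of_dvd Nat.card_pos (card_subgroup_dvd_card H))
        fun h => hH (eq_top_of_card_eq H h)
    have hsub : ∀ H : Subgroup G, H ≠ ⊤ → Group.IsSolvable H := fun H hH =>
      ih H (by have := hlt H hH; omega) (hodd.of_dvd_nat (card_subgroup_dvd_card H))
        (isCN_subgroup hCN H)
    have hnc : ¬ IsMulCommutative G := fun h => hns (by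
      open scoped IsMulCommutative in
      haveI := h
      haveI : Group.IsNilpotent G := CommGroup.isNilpotent
      infer_instance)
    haveI : Nontrivial G := not_subsingleton_iff_nontrivial.mp fun h => hnc ⟨⟨fun a b =>
      Subsingleton.elim _ _⟩⟩
    have hsimple : ∀ N : Subgroup G, N.Normal → N = ⊥ ∨ N = ⊤ := by
      intro N hN
      by_contra hcon
      rw [not_or] at hcon
      haveI := hN
      haveI : Group.IsSolvable N := hsub N hcon.2
      haveI : Nontrivial N := (nontrivial_iff_ne_bot N).mpr hcon.1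
      have hq : Nat.card (G ⧸ N) < Nat.card G := by
        rw [card_eq_card_quotient_mul_card_subgroup N]
        exact lt_mul_of_one_lt_right Nat.card_pos Finite.one_lt_card
      haveI : Group.IsSolvable (G ⧸ N) := ih (G ⧸ N) (by omega)
        (hodd.of_dvd_nat (card_quotient_dvd_card N))
        (H42.cn_quotient_solvable (Nat.card N) G hCN N inferInstance le_rfl)
      exact hns (Group.isSolvable_of_ker_le_range N.subtype (QuotientGroup.mk' N)
        (by rw [QuotientGroup.ker_mk', range_subtype]))
    exact not_minSimple (G := G) ⟨hodd, ⟨hsimple⟩, hnc, hsub⟩ hCN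

end Cfsg.Agent.OddOrder.CN
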