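import Cfsg.Agent.OddOrder.CN.Solvable
import Cfsg.Agent.Coprime.Action
import Cfsg.Agent.H31.Basic
import Cfsg.Agent.H42.CNQuot
import Cfsg.Agent.S1474

/-!
# The structure of solvable CN-groups
-/

set_option autoImplicit false
set_option linter.style.haveILetI false
set_option linter.unusedSectionVars false

namespace Cfsg.Agent.OddOrder.CN

open Subgroup
open scoped commutatorElement

variable {G : Type*} [Group G] [Finite G]

theorem pow_primePart_ne_one {p : ℕ} [hp : Fact p.Prime] {Q : Type*} [Group Q] {x : Q}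
    (hx : x ≠ 1) (hcop : (orderOf x).Coprime p) (i : ℕ) : x ^ p ^ i ≠ 1 := fun h =>
  hx (orderOf_eq_one_iff.mp (Nat.eq_one_of_dvd_coprimes (hcop.pow_right i) dvd_rfl
    (orderOf_dvd_of_pow_eq_one h)))

/-- A `p`-element and a `p'`-element do not commute when the latter is fixed-point-free on
the `p`-core. -/
theorem not_commute_of_fpf (hCN : Cfsg.IsCNGroup G) {p : ℕ} [Fact p.Prime] {P₀ : Subgroup G}
    [P₀.Normal] (hP : IsPGroup p P₀) (hne : P₀ ≠ ⊥) (hC : centralizer (P₀ : Set G) ≤ P₀) {a x : G}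
    {k : ℕ} (ha : (orderOf a).Coprime p) (ha1 : a ≠ 1) (hx : orderOf x = p ^ k) (hx1 : x ≠ 1) :
    a * x ≠ x * a := by
  intro hax
  obtain ⟨w, hw, hw1, hxw⟩ := H42.exists_ne_one_commute hP hne hx
  obtain ⟨j, hj⟩ := IsPGroup.iff_orderOf.mp hP ⟨w, hw⟩
  rw [Subgroup.orderOf_mk] at hj
  refine hw1 (fpf_of_centralizer_le hCN hP hC ha ha1 hw ?_)
  exact H41.commute_of_coprime_of_isNilpotent (hCN x hx1) (mem_centralizer_singleton_iff.mpr hax)
    (mem_centralizer_singleton_iff.mpr hxw.symm) (by rw [hj]; exact ha.pow_right j)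

/-- The same in the quotient by the `p`-core. -/
theorem not_commute_quotient (hCN : Cfsg.IsCNGroup G) {p : ℕ} [hp : Fact p.Prime] {P₀ : Subgroup G}
    [P₀.Normal] (hP : IsPGroup p P₀) (hne : P₀ ≠ ⊥) (hC : centralizer (P₀ : Set G) ≤ P₀)
    {a x : G ⧸ P₀} {k : ℕ} (ha : (orderOf a).Coprime p) (ha1 : a ≠ 1) (hx : orderOf x = p ^ k)
    (hx1 : x ≠ 1) : a * x ≠ x * a := by
  intro hax
  obtain ⟨a₀, rfl⟩ := QuotientGroup.mk'_surjective P₀ a
  obtain ⟨x₀, rfl⟩ := QuotientGroup.mk'_surjective P₀ x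
  obtain ⟨i, r, hr, hn⟩ :=
    Nat.exists_eq_pow_mul_and_not_dvd (orderOf_pos a₀).ne' p hp.out.ne_one
  set a₁ := a₀ ^ p ^ i with ha₁
  have ho : (orderOf a₁).Coprime p := by
    refine Nat.Coprime.coprime_dvd_left (orderOf_dvd_of_pow_eq_one ?_)
      (hp.out.coprime_iff_not_dvd.mpr hr).symm
    rw [ha₁, ← pow_mul, ← hn, pow_orderOf_eq_one]
  have hq1 : QuotientGroup.mk' P₀ a₁ ≠ 1 := by
    rw [ha₁, map_pow]; exact pow_primePart_ne_one ha1 ha i
  have hcomm : Commute (QuotientGroup.mk' P₀ a₁) (QuotientGroup.mk' P₀ x₀) := by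
    rw [ha₁, map_pow]; exact (show Commute _ _ from hax).pow_left _
  have hfix : a₁ * x₀ * a₁⁻¹ * x₀⁻¹ ∈ P₀ := by
    rw [← QuotientGroup.eq_one_iff]
    show QuotientGroup.mk' P₀ _ = 1
    simp only [map_mul, map_inv]
    rw [hcomm.eq]; group
  have hx₀ : x₀ ^ p ^ k ∈ P₀ := by
    rw [← QuotientGroup.eq_one_iff]
    show QuotientGroup.mk' P₀ _ = 1
    rw [map_pow, ← hx, pow_orderOf_eq_one]
  obtain ⟨j, hj⟩ := hP ⟨_, hx₀⟩
  have hxp : IsPGroup p (zpowers x₀) := by
    have h : orderOf x₀ ∣ p ^ (k + j) := orderOf_dvd_of_pow_eq_one (by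
      rw [pow_add, pow_mul]; exact congrArg Subtype.val hj)
    obtain ⟨m, -, hm⟩ := (Nat.dvd_prime_pow hp.out).mp h
    exact IsPGroup.of_card (n := m) (by rw [Nat.card_zpowers, hm])
  set P₁ := P₀ ⊔ zpowers x₀ with hP₁
  have hP₁p : IsPGroup p P₁ := hP.to_sup_of_normal_left hxp
  have hAK : zpowers a₁ ≤ normalizer (P₁ : Set G) := by
    refine zpowers_le.mpr (Thompson.mem_normalizer_of_map_conj (eq_of_le_of_card_ge ?_ ?_))
    · rw [hP₁, Subgroup.map_sup, MonoidHom.map_zpowers]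
      refine sup_le ?_ (zpowers_le.mpr ?_)
      · rintro _ ⟨w, hw, rfl⟩
        exact mem_sup_left (Subgroup.Normal.conj_mem ‹P₀.Normal› w hw a₁)
      · have := mul_mem (mem_sup_left (T := zpowers x₀) hfix)
          (mem_sup_right (S := P₀) (mem_zpowers x₀))
        simpa [mul_assoc] using this
    · rw [card_map_of_injective (MulAut.conj a₁).injective]
  obtain ⟨m, hm⟩ := IsPGroup.iff_card.mp hP₁p
  obtain ⟨c, hc, hcx⟩ := Coprime.exists_centralizer_mem_of_comm_mem (A := zpowers a₁) (K := P₁)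
    hAK (by rw [Nat.card_zpowers, hm]; exact ho.pow_right m)
    (Or.inl (by open scoped IsMulCommutative in infer_instance))
    (N := P₀) le_sup_left
    (fun _ _ => by simp [normalizer_eq_top_iff.mpr ‹P₀.Normal›])
    (fun _ _ => by simp [normalizer_eq_top_iff.mpr ‹P₀.Normal›])
    (mem_sup_right (mem_zpowers x₀))
    (fun b hb => by
      obtain ⟨n, rfl⟩ := mem_zpowers_iff.mp hb
      rw [← QuotientGroup.eq_one_iff]
      show QuotientGroup.mk' P₀ _ = 1
      simp only [map_mul, map_inv, map_zpow]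
      rw [(hcomm.zpow_left n).eq]; group)
  obtain ⟨l, hl⟩ := IsPGroup.iff_orderOf.mp hP₁p ⟨c, hc.1⟩
  rw [Subgroup.orderOf_mk] at hl
  refine not_commute_of_fpf hCN hP hne hC ho (fun h => hq1 (by rw [h, map_one])) hl ?_
    (mem_centralizer_iff.mp hc.2 a₁ (mem_zpowers a₁))
  intro h
  rw [h, mul_one] at hcx
  exact hx1 ((QuotientGroup.eq_one_iff x₀).mpr (inv_mem_iff.mp hcx))

/-- The shape of a nilpotent Frobenius complement. -/
theorem complement_shape {E : Subgroup G}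
    (hH : Cfsg.IsFrobeniusComplement E) (hnil : Group.IsNilpotent E) :
    IsCyclic E ∨ ∃ C Q : Subgroup G, C ⊔ Q = E ∧ (∀ a ∈ C, ∀ b ∈ Q, a * b = b * a) ∧ IsCyclic C ∧
      Odd (Nat.card C) ∧ ∃ n : ℕ, Nonempty (↥Q ≃* QuaternionGroup (2 ^ n)) := by
  haveI := hnil
  obtain ⟨Q⟩ : Nonempty (Sylow 2 E) := inferInstance
  rcases Frobenius.sylow_cyclic_or_quaternion hH 2 Q with hcyc | ⟨-, n, ⟨e⟩⟩
  · left
    haveI : IsZGroup E := ⟨fun p hp P => by
      haveI := Fact.mk hp
      rcases Frobenius.sylow_cyclic_or_quaternion hH p P with h | ⟨rfl, -⟩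
      · exact h
      · haveI := Sylow.unique_of_normal Q (sylow_normal hnil Q)
        rwa [Subsingleton.elim P Q]⟩
    infer_instance
  · right
    haveI hQn : (Q : Subgroup E).Normal := sylow_normal hnil Q
    obtain ⟨C, hC⟩ := exists_right_complement'_of_coprime (N := (Q : Subgroup E)) Q.card_coprime_index
    have hCodd : Odd (Nat.card C) := by
      rw [Nat.odd_iff, ← Nat.two_dvd_ne_zero, ← hC.symm.index_eq_card]
      exact Q.not_dvd_index
    haveI : IsZGroup C := ⟨fun p hp P => by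
      haveI := Fact.mk hp
      obtain ⟨R, hR⟩ := (P.isPGroup'.map C.subtype).exists_le_sylow
      rcases Frobenius.sylow_cyclic_or_quaternion hH p R with h | ⟨rfl, -⟩
      · exact isCyclic_of_injective ((inclusion hR).comp
          (equivMapOfInjective (P : Subgroup C) C.subtype C.subtype_injective).toMonoidHom)
          ((inclusion_injective hR).comp (MulEquiv.injective _))
      · obtain ⟨m, hm⟩ := IsPGroup.iff_card.mp P.isPGroup'
        haveI : Subsingleton (P : Subgroup C) := by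
          refine (Nat.card_eq_one_iff_unique.mp ?_).1
          rcases m with _ | m
          · simpa using hm
          · exfalso
            exact Nat.not_even_iff_odd.mpr hCodd (even_iff_two_dvd.mpr
              ((dvd_pow_self 2 m.succ_ne_zero).trans (hm ▸ card_subgroup_dvd_card _)))
        exact isCyclic_of_subsingleton⟩
    refine ⟨C.map E.subtype, (Q : Subgroup E).map E.subtype, ?_, ?_, ?_, ?_, n, ⟨?_⟩⟩
    · rw [← Subgroup.map_sup, sup_comm, hC.sup_eq_top, ← MonoidHom.range_eq_map, range_subtype]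
    · rintro _ ⟨a, ha, rfl⟩ _ ⟨b, hb, rfl⟩
      refine congrArg Subtype.val (H41.commute_of_coprime_orderOf hnil ?_).eq
      exact ((Q.card_coprime_index.coprime_dvd_left (Subgroup.orderOf_dvd_natCard _ hb)).coprime_dvd_right
        (hC.symm.index_eq_card ▸ Subgroup.orderOf_dvd_natCard _ ha)).symm
    · exact (equivMapOfInjective C E.subtype E.subtype_injective).isCyclic.mp inferInstance
    · rwa [card_map_of_injective E.subtype_injective]
    · exact (equivMapOfInjective _ E.subtype E.subtype_injective).symm.trans e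

/-- A solvable CN-group with non-trivial `p`-core and non-normal Sylow `p`-subgroup is a
three-step group. -/
theorem isThreeStep (hCN : Cfsg.IsCNGroup G) [Group.IsSolvable G] {p : ℕ} [hp : Fact p.Prime]
    (hO : Cfsg.pCore p G ≠ ⊥) (S : Sylow p G) (hSn : ¬ (S : Subgroup G).Normal) :
    Cfsg.IsThreeStepGroup p G := by
  set P₀ := Cfsg.pCore p G with hP₀
  have hC : centralizer (P₀ : Set G) ≤ P₀ := centralizer_pCore_le' hCN hO S hSn
  have hP₀p : IsPGroup p P₀ := Cores.pCore_isPGroup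
  have hnc := fun {a x : G ⧸ P₀} {k : ℕ} => not_commute_quotient hCN hP₀p hO hC (a := a) (x := x) (k := k)
  set K := Cfsg.fittingSubgroup (G ⧸ P₀) with hK
  have hKp : (Nat.card K).Coprime p := by
    refine Nat.Coprime.coprime_dvd_left (card_dvd_of_le ?_) Cores.coprime_card_pPrimeCore
    rw [hK, Cores.iSup_pCore_eq_fittingSubgroup]
    refine (Cores.iSup_pCore_le_sup p).trans ?_
    exact sup_le le_rfl ((Cores.pCore_quotient_pCore (p := p) (G := G)).le.trans bot_le)
  have hCK : centralizer (K : Set (G ⧸ P₀)) ≤ K := Cores.centralizer_fittingSubgroup_le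
  set T := (S : Subgroup G).map (QuotientGroup.mk' P₀) with hT
  have hTp : IsPGroup p T := S.isPGroup'.map _
  obtain ⟨x₁, hx₁, hx₁1⟩ : ∃ x ∈ T, x ≠ 1 := by
    refine (bot_or_exists_ne_one T).resolve_left fun h => hSn ?_
    rw [hT, Subgroup.map_eq_bot_iff, QuotientGroup.ker_mk'] at h
    rw [show (S : Subgroup G) = P₀ from le_antisymm h (Cores.pCore_le_sylow S)]
    infer_instance
  have hTel : ∀ t ∈ T, ∃ k, orderOf t = p ^ k := fun t ht => by
    obtain ⟨k, hk⟩ := IsPGroup.iff_orderOf.mp hTp ⟨t, ht⟩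
    exact ⟨k, by rwa [Subgroup.orderOf_mk] at hk⟩
  have hKel : ∀ u ∈ K, (orderOf u).Coprime p := fun u hu =>
    hKp.coprime_dvd_left (Subgroup.orderOf_dvd_natCard _ hu)
  have hK1 : K ≠ ⊥ := fun h => hx₁1 (mem_bot.mp (h ▸ hCK (by
    rw [h]; exact mem_centralizer_iff.mpr fun y hy => by rw [mem_bot.mp hy, one_mul, mul_one])))
  set K' := K.comap (QuotientGroup.mk' P₀) with hK'
  have hP₀K' : P₀ ≤ K' := by
    rw [hK']; exact (QuotientGroup.ker_mk' P₀).ge.trans (comap_mono bot_le)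
  set f : K' →* G ⧸ P₀ := (QuotientGroup.mk' P₀).comp K'.subtype with hf
  have hker : f.ker = P₀.subgroupOf K' := by
    rw [hf, ← MonoidHom.comap_ker, QuotientGroup.ker_mk']; rfl
  have hrange : f.range = K := by
    rw [hf, MonoidHom.range_comp, range_subtype, hK',
      map_comap_eq_self_of_surjective (QuotientGroup.mk'_surjective P₀)]
  have hidx : (P₀.subgroupOf K').index = Nat.card K := by rw [← hker, index_ker, hrange]
  obtain ⟨n, hn⟩ := IsPGroup.iff_card.mp hP₀p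
  have hcop : (Nat.card (P₀.subgroupOf K')).Coprime (P₀.subgroupOf K').index := by
    rw [hidx, Nat.card_congr (subgroupOfEquivOfLe hP₀K').toEquiv, hn]
    exact hKp.symm.pow_left n
  obtain ⟨A, hA⟩ := exists_right_complement'_of_coprime hcop
  have hAcard : Nat.card A = Nat.card K := by rw [← hidx, hA.symm.index_eq_card]
  have hfpfG : ∀ a ∈ A, a ≠ 1 → ∀ x ∈ P₀, (a : G) * x = x * a → x = 1 := fun a ha ha1 x hx h =>
    fpf_of_centralizer_le hCN hP₀p hC (hKp.coprime_dvd_left (by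
      rw [Subgroup.orderOf_coe, ← hAcard]; exact Subgroup.orderOf_dvd_natCard A ha))
      (fun h => ha1 (Subtype.ext h)) hx h
  have hfpf : ∀ a ∈ A, a ≠ 1 → P₀.subgroupOf K' ⊓ centralizer ({a} : Set K') = ⊥ := by
    intro a ha ha1
    refine (eq_bot_iff_forall _).mpr fun x hx => Subtype.ext ?_
    exact hfpfG a ha ha1 x hx.1 (congrArg Subtype.val (mem_centralizer_singleton_iff.mp hx.2).symm)
  have hAne : A ≠ ⊥ := fun h => hK1 (card_eq_one.mp (by rw [← hAcard, h, card_bot]))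
  have hP₀ne : P₀.subgroupOf K' ≠ ⊥ := by
    rw [ne_eq, subgroupOf_eq_bot, disjoint_iff, inf_eq_left.mpr hP₀K']; exact hO
  have hFC : Cfsg.IsFrobeniusComplement A := isFrobeniusComplement_of_fpf hA hP₀ne hAne hfpf
  have hsurj : ∀ u ∈ K, ∃ a ∈ A, f a = u := by
    intro u hu
    obtain ⟨x, rfl⟩ := hrange.ge hu
    obtain ⟨⟨w, a⟩, rfl⟩ := hA.2 x
    exact ⟨a, a.2, by rw [map_mul, MonoidHom.mem_ker.mp (hker.ge w.2), one_mul]⟩
  have hinj : ∀ a ∈ A, f a = 1 → a = 1 := fun a ha h =>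
    mem_bot.mp (hA.disjoint.eq_bot ▸ ⟨hker.le (MonoidHom.mem_ker.mpr h), ha⟩)
  haveI : K.Normal := inferInstance
  -- `K` has odd order
  have hKodd : Odd (Nat.card A) := by
    rw [Nat.odd_iff, ← Nat.two_dvd_ne_zero]
    intro h2
    obtain ⟨t, ht⟩ := exists_prime_orderOf_dvd_card' 2 h2
    have ht1 : t.1 ≠ 1 := fun h => by
      rw [← Subgroup.orderOf_coe, h, orderOf_one] at ht; norm_num at ht
    have ht2 : t.1 * t.1 = 1 := by
      rw [← Subgroup.coe_mul, ← sq, ← ht, pow_orderOf_eq_one, Subgroup.coe_one]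
    have hft1 : f t.1 ≠ 1 := fun h => ht1 (hinj _ t.2 h)
    have hftK : f t.1 ∈ K := hrange.le ⟨t.1, rfl⟩
    have hcen : ∀ g : G ⧸ P₀, g * f t.1 * g⁻¹ = f t.1 := by
      intro g
      obtain ⟨s, hs, hseq⟩ := hsurj _ (Subgroup.Normal.conj_mem ‹K.Normal› _ hftK g)
      have hs1 : s ≠ 1 := fun h => hft1 (by
        rw [h, map_one] at hseq; exact conj_eq_one_iff.mp hseq.symm)
      have hs2 : s * s = 1 := hinj _ (mul_mem hs hs) (by
        rw [map_mul, hseq, conj_mul, ← map_mul, ht2, map_one]; group)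
      rw [← hseq, Frobenius.involution_unique hFC hs hs1 hs2 t.2 ht1 ht2]
    obtain ⟨k, hk⟩ := hTel x₁ hx₁
    exact hnc (hKel _ hftK) hft1 hk hx₁1 (mul_inv_eq_iff_eq_mul.mp (hcen x₁)).symm
  haveI : IsCyclic A := complement_isCyclic (isCN_subgroup hCN K') hA hP₀ne hfpf hKodd
  haveI : IsCyclic K := isCyclic_of_surjective ((f.comp A.subtype).codRestrict K fun a =>
      hrange.le ⟨a.1, rfl⟩) (by
    rintro ⟨u, hu⟩
    obtain ⟨a, ha, rfl⟩ := hsurj u hu
    exact ⟨⟨a, ha⟩, rfl⟩)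
  have hQ : commutator (G ⧸ P₀) ≤ K := (commutator_le_centralizer K).trans hCK
  set N := normalizer (T : Set (G ⧸ P₀)) with hN
  have hKN : ∀ u ∈ K, u ∈ N → u = 1 := by
    intro u hu huN
    by_contra hu1
    obtain ⟨k, hk⟩ := hTel x₁ hx₁
    refine hnc (hKel u hu) hu1 hk hx₁1 ?_
    have h1 : u * x₁ * u⁻¹ * x₁⁻¹ ∈ T :=
      mul_mem ((mem_normalizer_iff.mp huN x₁).mp hx₁) (inv_mem hx₁)
    have h2 : u * x₁ * u⁻¹ * x₁⁻¹ ∈ K := by
      have := mul_mem hu (Subgroup.Normal.conj_mem ‹K.Normal› _ (inv_mem hu) x₁)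
      simpa [mul_assoc] using this
    obtain ⟨m, hm⟩ := hTel _ h1
    have h4 : u * x₁ * u⁻¹ * x₁⁻¹ = 1 := orderOf_eq_one_iff.mp
      (Nat.eq_one_of_dvd_coprimes (hKp.pow_right m) (Subgroup.orderOf_dvd_natCard _ h2) (by rw [hm]))
    exact mul_inv_eq_iff_eq_mul.mp (mul_inv_eq_one.mp h4)
  have hNcomm : ∀ a ∈ N, ∀ b ∈ N, a * b = b * a := fun a ha b hb =>
    commutatorElement_eq_one_iff_mul_comm.mp (hKN _
      (hQ (commutator_mem_commutator (mem_top a) (mem_top b)))
      (by rw [commutatorElement_def]; exact mul_mem (mul_mem (mul_mem ha hb) (inv_mem ha)) (inv_mem hb)))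
  have hNp : IsPGroup p N := by
    intro y
    obtain ⟨i, r, hr, hn⟩ := Nat.exists_eq_pow_mul_and_not_dvd (orderOf_pos y.1).ne' p hp.out.ne_one
    refine ⟨i, Subtype.ext (by_contra fun hy => ?_)⟩
    obtain ⟨k, hk⟩ := hTel x₁ hx₁
    refine hnc (a := y.1 ^ p ^ i) ?_ (by simpa using hy) hk hx₁1
      ((show Commute y.1 x₁ from hNcomm _ y.2 _ (le_normalizer hx₁)).pow_left _).eq
    refine Nat.Coprime.coprime_dvd_left (orderOf_dvd_of_pow_eq_one ?_)
      (hp.out.coprime_iff_not_dvd.mpr hr).symm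
    rw [← pow_mul, ← hn, pow_orderOf_eq_one]
  haveI hKTn : (K ⊔ T).Normal := ⟨fun w hw g => by
    have h1 : g * w * g⁻¹ * w⁻¹ ∈ K ⊔ T := mem_sup_left (hQ (by
      have := commutator_mem_commutator (mem_top g) (mem_top w)
      rwa [commutatorElement_def] at this))
    simpa [mul_assoc] using mul_mem h1 hw⟩
  let TS : Sylow p (G ⧸ P₀) := S.mapSurjective (QuotientGroup.mk'_surjective P₀)
  have hKN' : K ⊔ N = ⊤ := by
    have h := Sylow.normalizer_sup_eq_top' TS (N := K ⊔ T) le_sup_right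
    rw [eq_top_iff, ← h]
    exact sup_le le_sup_right (sup_le le_sup_left ((le_normalizer (H := T)).trans le_sup_right))
  have hindex : ∃ m, K'.index = p ^ m := by
    have h1 : K.index = K.relIndex N := by
      rw [← relIndex_top_right, ← hKN', sup_comm, relIndex_sup_right]
    obtain ⟨m, hm⟩ := IsPGroup.iff_card.mp hNp
    obtain ⟨l, -, hl⟩ := (Nat.dvd_prime_pow hp.out).mp (hm ▸ relIndex_dvd_card K N)
    exact ⟨l, by rw [hK', index_comap_of_surjective _ (QuotientGroup.mk'_surjective P₀), h1, hl]⟩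
  have hsup : P₀ ⊔ A.map K'.subtype = K' := by
    refine le_antisymm (sup_le hP₀K' (map_subtype_le _)) fun x hx => ?_
    obtain ⟨⟨w, a⟩, hwa⟩ := hA.2 ⟨x, hx⟩
    rw [show x = (w.1 : G) * (a.1 : G) from (congrArg Subtype.val hwa).symm]
    exact mul_mem (mem_sup_left w.2) (mem_sup_right ⟨a.1, a.2, rfl⟩)
  refine ⟨hO, A.map K'.subtype, ?_, ?_, ?_, ?_, ?_, ?_, ?_, ?_, ?_⟩
  · rwa [ne_eq, map_eq_bot_iff_of_injective _ K'.subtype_injective]
  · exact (equivMapOfInjective A K'.subtype K'.subtype_injective).isCyclic.mp inferInstance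
  · rwa [card_map_of_injective K'.subtype_injective]
  · rw [card_map_of_injective K'.subtype_injective, hAcard]; exact hKp
  · rw [← hP₀, hsup, hK']; infer_instance
  · rw [← hP₀, hsup]
    intro h
    obtain ⟨k, hk⟩ := hTel x₁ hx₁
    obtain ⟨y, hy⟩ := QuotientGroup.mk'_surjective P₀ x₁
    have hxK : x₁ ∈ K := hy ▸ (h ▸ mem_top y : y ∈ K')
    exact hx₁1 (orderOf_eq_one_iff.mp
      (Nat.eq_one_of_dvd_coprimes (hKp.pow_right k) (Subgroup.orderOf_dvd_natCard _ hxK) (by rw [hk])))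
  · rw [← hP₀, hsup]; exact hindex
  · rintro _ ⟨a, ha, rfl⟩ ha1
    refine (eq_bot_iff_forall _).mpr fun x hx => ?_
    exact hfpfG a ha (fun h => ha1 (by rw [h, map_one])) x hx.1
      (mem_centralizer_singleton_iff.mp hx.2).symm
  · rintro x hx _ ⟨a, ha, rfl⟩ ha1 hmem
    rw [← hP₀, hsup] at hx
    set xq := QuotientGroup.mk' P₀ x with hxq
    have hx' : xq ∉ K := hx
    have hfa : f a ≠ 1 := fun h => ha1 (by rw [hinj a ha h, map_one])
    have hcomm : Commute (f a) xq := by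
      have h1 : QuotientGroup.mk' P₀ (x * a * x⁻¹ * (a : G)⁻¹) = 1 :=
        (QuotientGroup.eq_one_iff _).mpr hmem
      simp only [map_mul, map_inv] at h1
      exact (mul_inv_eq_iff_eq_mul.mp (mul_inv_eq_one.mp h1)).symm
    -- some power of `xq` is a non-trivial `p`-element
    obtain ⟨i, r, hr, hn⟩ := Nat.exists_eq_pow_mul_and_not_dvd (orderOf_pos xq).ne' p hp.out.ne_one
    have hr1 : xq ^ r ≠ 1 := by
      intro h
      obtain ⟨m, hm⟩ := hindex
      rw [hK', index_comap_of_surjective _ (QuotientGroup.mk'_surjective P₀)] at hm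
      refine hx' ((QuotientGroup.eq_one_iff (N := K) xq).mp (orderOf_eq_one_iff.mp
        (Nat.eq_one_of_dvd_coprimes (((hp.out.coprime_iff_not_dvd.mpr hr).symm).pow_right m)
          ((orderOf_map_dvd (QuotientGroup.mk' K) xq).trans (orderOf_dvd_of_pow_eq_one h)) ?_)))
      exact (_root_.orderOf_dvd_natCard _).trans (by rw [← Subgroup.index_eq_card, hm])
    obtain ⟨m, -, hm⟩ := (Nat.dvd_prime_pow hp.out).mp (orderOf_dvd_of_pow_eq_one
      (show (xq ^ r) ^ p ^ i = 1 by rw [← pow_mul, mul_comm, ← hn, pow_orderOf_eq_one]))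
    exact hnc (hKel _ (hrange.le ⟨a, rfl⟩)) hfa hm hr1 (hcomm.pow_right r).eq

/-- Solvable CN-groups are nilpotent, Frobenius groups or three-step groups. -/
theorem trichotomy (hCN : Cfsg.IsCNGroup G) [Group.IsSolvable G] :
    Group.IsNilpotent G ∨
      (∃ K E : Subgroup G, K.Normal ∧ Subgroup.IsComplement' K E ∧ Cfsg.IsFrobeniusComplement E ∧
        (IsCyclic E ∨ ∃ C Q : Subgroup G, C ⊔ Q = E ∧ (∀ a ∈ C, ∀ b ∈ Q, a * b = b * a) ∧
          IsCyclic C ∧ Odd (Nat.card C) ∧ ∃ n : ℕ, Nonempty (↥Q ≃* QuaternionGroup (2 ^ n)))) ∨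
      ∃ p : ℕ, p.Prime ∧ Cfsg.IsThreeStepGroup p G := by
  by_cases hnil : Group.IsNilpotent G
  · exact Or.inl hnil
  haveI : Nontrivial G := not_subsingleton_iff_nontrivial.mp fun h => hnil inferInstance
  right
  by_cases hP : ∃ p : ℕ, p.Prime ∧ ∃ P : Sylow p G, (P : Subgroup G) ≠ ⊥ ∧ (P : Subgroup G).Normal
  · obtain ⟨p, hp, P, hP1, hPn⟩ := hP
    haveI := Fact.mk hp
    obtain ⟨-, -, ⟨E, hE, hEF, -⟩, hQ⟩ := Cfsg.Agent.S1474.result hCN hnil p P hP1 hPn
    exact Or.inl ⟨Cfsg.fittingHall G, E, inferInstance, hE, hEF,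
      complement_shape hEF (Group.nilpotent_of_mulEquiv hE.symm.QuotientMulEquiv)⟩
  · push Not at hP
    obtain ⟨V, -, hV, hVne, -, -, p, hp, -, hVp, -⟩ :=
      H31.exists_minNormal_elementary (G := G) (K := ⊤) inferInstance top_ne_bot
    haveI := Fact.mk hp
    haveI := hV
    have hO : Cfsg.pCore p G ≠ ⊥ := fun h => hVne (le_bot_iff.mp (h ▸ Cores.le_pCore hVp))
    obtain ⟨S⟩ : Nonempty (Sylow p G) := inferInstance
    exact Or.inr ⟨p, hp, isThreeStep hCN hO S
      (hP p hp S fun h => hO (le_bot_iff.mp (h ▸ Cores.pCore_le_sylow S)))⟩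

end Cfsg.Agent.OddOrder.CN
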