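import Cfsg.Prelude.Def_LieExceptional
import Cfsg.Prelude.Def_OddOrderLocal
import Cfsg.Agent.H41.Nilpotent
import Cfsg.Agent.PGroups.Basic
import Cfsg.Agent.Components.Fitting

/-!
# CN-groups: maximal nilpotent subgroups
-/

set_option autoImplicit false
set_option linter.style.haveILetI false
set_option linter.unusedSectionVars false

namespace Cfsg.Agent.OddOrder.CN

open Subgroup

variable {G : Type*} [Group G]

/-- `H` is a maximal nilpotent subgroup. -/
def IsMaxNil (H : Subgroup G) : Prop :=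
  Group.IsNilpotent H ∧ ∀ L : Subgroup G, Group.IsNilpotent L → H ≤ L → L = H

variable [Finite G]

theorem isNilpotent_top_iff : Group.IsNilpotent (⊤ : Subgroup G) ↔ Group.IsNilpotent G :=
  ⟨fun h => by haveI := h; exact Group.nilpotent_of_mulEquiv Subgroup.topEquiv,
    fun h => inferInstance⟩

theorem sylow_normal {K : Type*} [Group K] [Finite K] (h : Group.IsNilpotent K) {p : ℕ}
    [hp : Fact p.Prime] (P : Sylow p K) : (P : Subgroup K).Normal :=
  (Group.isNilpotent_of_finite_tfae.out 0 3 rfl rfl).mp h p hp P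

theorem exists_isMaxNil_ge {A : Subgroup G} (hA : Group.IsNilpotent A) :
    ∃ H : Subgroup G, IsMaxNil H ∧ A ≤ H := by
  obtain ⟨H, hAH, hmax⟩ := Finite.exists_le_maximal
    (p := fun L : Subgroup G => Group.IsNilpotent L) hA
  exact ⟨H, ⟨hmax.prop, fun L hL hle => le_antisymm (hmax.le_of_ge hL hle) hle⟩, hAH⟩

omit [Finite G] in
theorem isMaxNil_map_conj {H : Subgroup G} (hH : IsMaxNil H) (g : G) :
    IsMaxNil (H.map (MulAut.conj g).toMonoidHom) := by
  refine ⟨Components.isNilpotent_map _ _ hH.1, fun L hL hle => ?_⟩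
  have h := hH.2 (L.map (MulAut.conj g⁻¹).toMonoidHom) (Components.isNilpotent_map _ _ hL) ?_
  · rw [← h, map_map]
    ext x
    simp [mul_assoc]
  · intro x hx
    exact ⟨MulAut.conj g x, hle ⟨x, hx, rfl⟩, by simp [mul_assoc]⟩

omit [Finite G] in
theorem IsMaxNil.ne_bot [Nontrivial G] {H : Subgroup G} (hH : IsMaxNil H) : H ≠ ⊥ := by
  intro h
  obtain ⟨x, hx⟩ := exists_ne (1 : G)
  have hz : Group.IsNilpotent (zpowers x) := by
    open scoped IsMulCommutative in exact CommGroup.isNilpotent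
  have := hH.2 _ hz (h ▸ bot_le)
  rw [h, zpowers_eq_bot] at this
  exact hx this

omit [Finite G] in
theorem centralizer_eq (hCN : Cfsg.IsCNGroup G) {H : Subgroup G} (hH : IsMaxNil H) {z : G}
    (hz1 : z ≠ 1) (hle : H ≤ centralizer ({z} : Set G)) : centralizer ({z} : Set G) = H :=
  hH.2 _ (hCN z hz1) hle

theorem exists_center {H : Subgroup G} (hH : IsMaxNil H) (hne : H ≠ ⊥) :
    ∃ z ∈ H, z ≠ 1 ∧ H ≤ centralizer ({z} : Set G) := by
  haveI := hH.1
  haveI : Nontrivial H := (nontrivial_iff_ne_bot H).mpr hne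
  obtain ⟨z, hz, hz1⟩ := (bot_or_exists_ne_one _).resolve_left
    (Group.IsNilpotent.center_ne_bot H)
  exact ⟨z, z.2, fun h => hz1 (Subtype.ext h), fun h hh => mem_centralizer_singleton_iff.mpr
    (congrArg Subtype.val (mem_center_iff.mp hz ⟨h, hh⟩))⟩

/-- In a nilpotent subgroup the unique Sylow subgroup together with the coprime elements
decides centrality. -/
theorem le_centralizer_of_sylow {H : Subgroup G} (hH : Group.IsNilpotent H) {p : ℕ}
    [Fact p.Prime] (P : Sylow p H) {z : G} (hz : z ∈ (P : Subgroup H).map H.subtype)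
    (hc : ∀ y ∈ (P : Subgroup H).map H.subtype, y * z = z * y) :
    H ≤ centralizer ({z} : Set G) := by
  obtain ⟨z', hz', rfl⟩ := hz
  have htop : centralizer ({z'} : Set H) = ⊤ := by
    refine Components.eq_top_of_forall_sylow _ fun q hq => ?_
    haveI : Fact q.Prime := hq
    by_cases hqp : q = p
    · subst hqp
      exact ⟨P, fun y hy => mem_centralizer_singleton_iff.mpr
        (Subtype.ext (hc _ ⟨y, hy, rfl⟩))⟩
    · obtain ⟨Q⟩ : Nonempty (Sylow q H) := inferInstance
      refine ⟨Q, fun y hy => mem_centralizer_singleton_iff.mpr ?_⟩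
      refine (H41.commute_of_coprime_orderOf hH ?_).eq
      obtain ⟨a, ha⟩ := IsPGroup.iff_orderOf.mp P.isPGroup' ⟨z', hz'⟩
      obtain ⟨b, hb⟩ := IsPGroup.iff_orderOf.mp Q.isPGroup' ⟨y, hy⟩
      rw [Subgroup.orderOf_mk] at ha hb
      rw [ha, hb]
      exact Nat.Coprime.pow _ _ ((Nat.coprime_primes hq.out Fact.out).mpr hqp)
  intro h hh
  have : (⟨h, hh⟩ : H) ∈ centralizer ({z'} : Set H) := htop ▸ mem_top _
  exact mem_centralizer_singleton_iff.mpr
    (congrArg Subtype.val (mem_centralizer_singleton_iff.mp this))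

/-- A maximal nilpotent subgroup of a CN-group is a Hall subgroup. -/
theorem coprime_index (hCN : Cfsg.IsCNGroup G) {H : Subgroup G} (hH : IsMaxNil H) :
    (Nat.card H).Coprime H.index := by
  refine Nat.coprime_of_dvd fun p hp hpH hpI => ?_
  haveI := Fact.mk hp
  obtain ⟨P⟩ : Nonempty (Sylow p H) := inferInstance
  set P' := (P : Subgroup H).map H.subtype with hP'
  have hP'p : IsPGroup p P' := P.isPGroup'.map _
  have hP'H : P' ≤ H := map_subtype_le _
  obtain ⟨S, hS⟩ := hP'p.exists_le_sylow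
  have hlt : P' < (S : Subgroup G) := lt_of_le_of_ne hS fun h =>
    S.not_dvd_index (h ▸ hpI.trans (index_dvd_of_le hP'H))
  obtain ⟨y, hyS, hyP, hyn⟩ : ∃ y, y ∈ (S : Subgroup G) ∧ y ∉ P' ∧
      y ∈ normalizer (P' : Set G) := by
    obtain ⟨y, hy⟩ := PGroups.exists_mem_notMem_normalizer S.isPGroup'
      (H := P'.subgroupOf S) (K := ⊤) (lt_top_iff_ne_top.mpr fun h =>
        hlt.not_ge (subgroupOf_eq_top.mp h))
    refine ⟨y, y.2, fun h => hy.2.1 h, ?_⟩
    rw [mem_normalizer_iff]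
    intro x
    constructor
    · intro hx
      exact (mem_normalizer_iff.mp hy.2.2 ⟨x, hS hx⟩).mp hx
    · intro hx
      have hxS : x ∈ (S : Subgroup G) := by
        have := mul_mem (mul_mem (inv_mem y.2) (hS hx)) y.2
        simpa [mul_assoc] using this
      exact (mem_normalizer_iff.mp hy.2.2 ⟨x, hxS⟩).mpr hx
  set N := (S : Subgroup G) ⊓ normalizer (P' : Set G) with hN
  have hNP : P' ≤ N := le_inf hS le_normalizer
  haveI : (P'.subgroupOf N).Normal :=
    normal_subgroupOf_of_le_normalizer inf_le_right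
  have hne : P'.subgroupOf N ≠ ⊥ := by
    rw [ne_eq, subgroupOf_eq_bot, disjoint_iff, inf_eq_left.mpr hNP, hP',
      map_eq_bot_iff_of_injective _ H.subtype_injective]
    exact Sylow.ne_bot_of_dvd_card P hpH
  obtain ⟨c, hc, hc1⟩ := (bot_or_exists_ne_one _).resolve_left
    (PGroups.inf_center_ne_bot (S.isPGroup'.to_le inf_le_left) (P'.subgroupOf N) hne)
  have hcomm : ∀ w ∈ N, w * (c : G) = (c : G) * w := fun w hw =>
    congrArg Subtype.val (mem_center_iff.mp hc.2 ⟨w, hw⟩)
  have hle := le_centralizer_of_sylow hH.1 P (z := (c : G)) hc.1 fun w hw => hcomm w (hNP hw)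
  have heq := centralizer_eq hCN hH (fun h => hc1 (Subtype.ext h)) hle
  have hyH : y ∈ H := heq ▸ mem_centralizer_singleton_iff.mpr (hcomm y ⟨hyS, hyn⟩)
  -- `y` is a `p`-element of `H`, so it lies in the Sylow subgroup `P`
  haveI := hH.1
  have hPn : (P : Subgroup H).Normal := sylow_normal hH.1 P
  haveI := Sylow.unique_of_normal P hPn
  obtain ⟨k, hk⟩ := IsPGroup.iff_orderOf.mp S.isPGroup' ⟨y, hyS⟩
  rw [Subgroup.orderOf_mk] at hk
  have hz : IsPGroup p (zpowers (⟨y, hyH⟩ : H)) :=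
    IsPGroup.of_card (n := k) (by rw [Nat.card_zpowers, Subgroup.orderOf_mk, hk])
  obtain ⟨Q, hQ⟩ := hz.exists_le_sylow
  exact hyP ⟨⟨y, hyH⟩, Subsingleton.elim Q P ▸ hQ (mem_zpowers _), rfl⟩

/-- Elements of prime power order for a prime dividing `|H|`: the Sylow subgroup of `G`. -/
theorem exists_sylow_le (hCN : Cfsg.IsCNGroup G) {H : Subgroup G} (hH : IsMaxNil H) {p : ℕ}
    [Fact p.Prime] (hp : p ∣ Nat.card H) :
    ∃ S : Sylow p G, (S : Subgroup G) ≤ H ∧ (S : Subgroup G) ≠ ⊥ := by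
  obtain ⟨P⟩ : Nonempty (Sylow p H) := inferInstance
  have hP : IsPGroup p ((P : Subgroup H).map H.subtype) := P.isPGroup'.map _
  have hi : ¬ p ∣ ((P : Subgroup H).map H.subtype).index := by
    rw [index_map_subtype, (Fact.out : p.Prime).dvd_mul, not_or]
    exact ⟨P.not_dvd_index, fun h => (Fact.out : p.Prime).one_lt.ne'
      (Nat.eq_one_of_dvd_coprimes (coprime_index hCN hH) hp h)⟩
  refine ⟨hP.toSylow hi, ?_, ?_⟩
  · rw [IsPGroup.toSylow_coe]; exact map_subtype_le _
  · rw [IsPGroup.toSylow_coe, ne_eq, map_eq_bot_iff_of_injective _ H.subtype_injective]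
    exact Sylow.ne_bot_of_dvd_card P hp

/-- Two maximal nilpotent subgroups sharing a non-trivial Sylow subgroup of `G` are equal. -/
theorem eq_of_common_sylow (hCN : Cfsg.IsCNGroup G) {H₁ H₂ : Subgroup G} (h₁ : IsMaxNil H₁)
    (h₂ : IsMaxNil H₂) {p : ℕ} [Fact p.Prime] (S : Sylow p G) (hne : (S : Subgroup G) ≠ ⊥)
    (hS₁ : (S : Subgroup G) ≤ H₁) (hS₂ : (S : Subgroup G) ≤ H₂) : H₁ = H₂ := by
  haveI : Nontrivial (S : Subgroup G) := (nontrivial_iff_ne_bot _).mpr hne
  obtain ⟨z, hz, hz1⟩ := (bot_or_exists_ne_one _).resolve_left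
    (S.isPGroup'.center_nontrivial |> (nontrivial_iff_ne_bot _).mp)
  have key : ∀ H : Subgroup G, IsMaxNil H → (S : Subgroup G) ≤ H →
      centralizer ({(z : G)} : Set G) = H := by
    intro H hH hSH
    refine centralizer_eq hCN hH (fun h => hz1 (Subtype.ext h)) ?_
    refine le_centralizer_of_sylow hH.1 (S.subtype hSH) ?_ ?_
    · rw [Sylow.coe_subtype, subgroupOf_map_subtype, inf_eq_left.mpr hSH]; exact z.2
    · intro w hw
      rw [Sylow.coe_subtype, subgroupOf_map_subtype, inf_eq_left.mpr hSH] at hw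
      exact congrArg Subtype.val (mem_center_iff.mp hz ⟨w, hw⟩)
  rw [← key H₁ h₁ hS₁, key H₂ h₂ hS₂]

theorem mem_conj_map {H : Subgroup G} {g x : G} :
    x ∈ H.map (MulAut.conj g).toMonoidHom ↔ g⁻¹ * x * g ∈ H := by
  rw [mem_map_equiv]
  simp [MulAut.conj_symm_apply]

/-- A maximal nilpotent subgroup that is not a `p`-group is TI. -/
theorem ti_of_not_primePow (hCN : Cfsg.IsCNGroup G) {H : Subgroup G} (hH : IsMaxNil H)
    (hpp : ¬ IsPrimePow (Nat.card H)) (h1 : Nat.card H ≠ 1) (g : G)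
    (hg : H.map (MulAut.conj g).toMonoidHom ≠ H) :
    H ⊓ H.map (MulAut.conj g).toMonoidHom = ⊥ := by
  set H₂ := H.map (MulAut.conj g).toMonoidHom with hH₂def
  have hH₂ : IsMaxNil H₂ := isMaxNil_map_conj hH g
  have hcard : Nat.card H₂ = Nat.card H := card_map_of_injective (MulAut.conj g).injective
  by_contra hne
  obtain ⟨p, hp, hpd⟩ := Nat.exists_prime_and_dvd (mt card_eq_one.mp hne)
  haveI := Fact.mk hp
  obtain ⟨x, hx⟩ := exists_prime_orderOf_dvd_card' p hpd
  rw [← Subgroup.orderOf_coe] at hx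
  have hx1 : (x : G) ≠ 1 := fun h => hp.ne_one (by rw [← hx, h, orderOf_one])
  have hpH : p ∣ Nat.card H := hpd.trans (card_dvd_of_le inf_le_left)
  obtain ⟨r, hr, hrd, hrp⟩ : ∃ r, r.Prime ∧ r ∣ Nat.card H ∧ r ≠ p := by
    by_contra hcon
    push Not at hcon
    exact hpp ((isPrimePow_iff_unique_prime_dvd (n := Nat.card H)).mpr
      ⟨p, ⟨hp, hpH⟩, fun r hr => hcon r hr.1 hr.2⟩)
  haveI := Fact.mk hr
  obtain ⟨S₁, hS₁, hS₁ne⟩ := exists_sylow_le hCN hH hrd
  obtain ⟨S₂, hS₂, -⟩ := exists_sylow_le hCN hH₂ (p := r) (by rw [hcard]; exact hrd)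
  have hle : ∀ (K : Subgroup G), IsMaxNil K → (x : G) ∈ K → ∀ S : Sylow r G,
      (S : Subgroup G) ≤ K → (S : Subgroup G) ≤ centralizer ({(x : G)} : Set G) := by
    intro K hK hxK S hSK y hy
    refine mem_centralizer_singleton_iff.mpr
      (H41.commute_of_coprime_of_isNilpotent hK.1 (hSK hy) hxK ?_)
    obtain ⟨b, hb⟩ := IsPGroup.iff_orderOf.mp S.isPGroup' ⟨y, hy⟩
    rw [Subgroup.orderOf_mk] at hb
    rw [hb, hx]
    exact Nat.Coprime.pow_left _ ((Nat.coprime_primes hr hp).mpr hrp)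
  have e₁ := hle H hH x.2.1 S₁ hS₁
  have e₂ := hle H₂ hH₂ x.2.2 S₂ hS₂
  haveI := hCN (x : G) hx1
  have hn : ((S₁.subtype e₁ : Sylow r (centralizer ({(x : G)} : Set G))) :
      Subgroup (centralizer ({(x : G)} : Set G))).Normal :=
    sylow_normal inferInstance _
  haveI := Sylow.unique_of_normal (S₁.subtype e₁) hn
  have heq : S₁ = S₂ := Sylow.subtype_injective (hP := e₁) (hQ := e₂) (Subsingleton.elim _ _)
  exact hg (eq_of_common_sylow hCN hH hH₂ S₁ hS₁ne hS₁ (heq ▸ hS₂)).symm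

/-- A TI maximal nilpotent subgroup contains the centralisers of its non-identity elements. -/
theorem centralizer_le (hCN : Cfsg.IsCNGroup G) {H : Subgroup G} (hH : IsMaxNil H)
    (hTI : ∀ g : G, H.map (MulAut.conj g).toMonoidHom ≠ H →
      H ⊓ H.map (MulAut.conj g).toMonoidHom = ⊥)
    {x : G} (hx : x ∈ H) (hx1 : x ≠ 1) : centralizer ({x} : Set G) ≤ H := by
  have hne : H ≠ ⊥ := fun h => hx1 (mem_bot.mp (h ▸ hx))
  obtain ⟨z, hz, hz1, hzle⟩ := exists_center hH hne
  have hzc : z ∈ centralizer ({x} : Set G) :=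
    mem_centralizer_singleton_iff.mpr (mem_centralizer_singleton_iff.mp (hzle hx)).symm
  have hCz := centralizer_eq hCN hH hz1 hzle
  intro c hc
  have hnorm : c ∈ normalizer (H : Set G) := by
    have heq : H.map (MulAut.conj c).toMonoidHom = H := by
      by_contra hcon
      have h := hTI c hcon
      refine hx1 (mem_bot.mp (h ▸ ⟨hx, mem_conj_map.mpr ?_⟩))
      rw [mem_centralizer_singleton_iff] at hc
      simpa [mul_assoc, ← hc] using hx
    rw [mem_normalizer_iff]
    intro y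
    conv_rhs => rw [← heq, mem_conj_map]
    simp [mul_assoc]
  haveI : (H.subgroupOf (normalizer (H : Set G))).Normal := normal_subgroupOf_of_le_normalizer le_rfl
  have hcop : (orderOf c).Coprime H.index := by
    refine Nat.coprime_of_dvd fun q hq hqc hqI => ?_
    have hqH : ¬ q ∣ Nat.card H := fun h =>
      hq.one_lt.ne' (Nat.eq_one_of_dvd_coprimes (coprime_index hCN hH) h hqI)
    have ho : orderOf (c ^ (orderOf c / q)) = q := orderOf_pow_orderOf_div (orderOf_pos c).ne' hqc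
    have hq' : c ^ (orderOf c / q) ∈ H := by
      rw [← hCz, mem_centralizer_singleton_iff]
      refine H41.commute_of_coprime_of_isNilpotent (hCN x hx1) (pow_mem hc _) hzc ?_
      rw [ho]
      exact (hq.coprime_iff_not_dvd.mpr hqH).coprime_dvd_right (orderOf_dvd_natCard H hz)
    exact hqH (ho ▸ orderOf_dvd_natCard H hq')
  have h1 : QuotientGroup.mk' (H.subgroupOf (normalizer (H : Set G))) ⟨c, hnorm⟩ = 1 := by
    rw [← orderOf_eq_one_iff]
    refine Nat.eq_one_of_dvd_coprimes hcop ?_ ?_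
    · exact (orderOf_map_dvd _ _).trans (by rw [Subgroup.orderOf_mk])
    · refine (_root_.orderOf_dvd_natCard _).trans ?_
      rw [← Subgroup.index_eq_card, ← Subgroup.relIndex]
      exact relIndex_dvd_index_of_le le_normalizer
  exact (QuotientGroup.eq_one_iff (N := H.subgroupOf (normalizer (H : Set G))) _).mp h1

end Cfsg.Agent.OddOrder.CN
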