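import Cfsg.Agent.OddOrder.CN.Basic
import Cfsg.Agent.Cores.Constrained
import Cfsg.Agent.Cores.Fitting
import Cfsg.Agent.Cores.PSolvable
import Cfsg.Agent.Frobenius.Basic
import Cfsg.Agent.Frobenius.TwoFrobenius
import Cfsg.Agent.H42.Stab
import Cfsg.Agent.S0069
import Mathlib.GroupTheory.SchurZassenhaus

/-!
# Solvable CN-groups with a non-trivial `p`-core
-/

set_option autoImplicit false
set_option linter.style.haveILetI false
set_option linter.unusedSectionVars false

namespace Cfsg.Agent.OddOrder.CN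

open Subgroup
open scoped commutatorElement

variable {G : Type*} [Group G] [Finite G]

theorem isCN_subgroup (hCN : Cfsg.IsCNGroup G) (M : Subgroup G) : Cfsg.IsCNGroup M := by
  intro x hx
  have hle : (centralizer ({x} : Set M)).map M.subtype ≤ centralizer ({(x : G)} : Set G) := by
    rintro _ ⟨y, hy, rfl⟩
    exact mem_centralizer_singleton_iff.mpr
      (congrArg Subtype.val (mem_centralizer_singleton_iff.mp hy))
  haveI := Components.isNilpotent_of_le (hCN (x : G) fun h => hx (Subtype.ext h)) hle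
  exact Group.nilpotent_of_mulEquiv
    (equivMapOfInjective _ M.subtype M.subtype_injective).symm

/-- A fixed-point-free complement in a CN-group is nilpotent. -/
theorem complement_isNilpotent (hCN : Cfsg.IsCNGroup G) {K E : Subgroup G} [K.Normal]
    (hc : IsComplement' K E) (hK : K ≠ ⊥)
    (hfpf : ∀ e ∈ E, e ≠ 1 → K ⊓ centralizer ({e} : Set G) = ⊥) : Group.IsNilpotent E := by
  by_cases hE : E = ⊥
  · subst hE; infer_instance
  obtain ⟨c, hc', hc1⟩ := (bot_or_exists_ne_one _).resolve_left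
    (Cfsg.Agent.S0069.result K E hc hK hE hfpf)
  exact Components.isNilpotent_of_le (hCN c fun h => hc1 (Subtype.ext h)) fun f hf =>
    mem_centralizer_singleton_iff.mpr
      (congrArg Subtype.val (mem_center_iff.mp hc' ⟨f, hf⟩))

theorem isFrobeniusComplement_of_fpf {K E : Subgroup G} [K.Normal] (hc : IsComplement' K E)
    (hK : K ≠ ⊥) (hE : E ≠ ⊥)
    (hfpf : ∀ e ∈ E, e ≠ 1 → K ⊓ centralizer ({e} : Set G) = ⊥) :
    Cfsg.IsFrobeniusComplement E :=
  Frobenius.of_fixedPointFree hc hK hE fun e he he1 k hk hek => by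
    have h : k ∈ K ⊓ centralizer ({e} : Set G) :=
      ⟨hk, mem_centralizer_singleton_iff.mpr hek.symm⟩
    rwa [hfpf e he he1, mem_bot] at h

/-- A fixed-point-free complement of odd order in a CN-group is cyclic. -/
theorem complement_isCyclic (hCN : Cfsg.IsCNGroup G) {K E : Subgroup G} [K.Normal]
    (hc : IsComplement' K E) (hK : K ≠ ⊥)
    (hfpf : ∀ e ∈ E, e ≠ 1 → K ⊓ centralizer ({e} : Set G) = ⊥) (hodd : Odd (Nat.card E)) :
    IsCyclic E := by
  by_cases hE : E = ⊥
  · subst hE; exact isCyclic_of_subsingleton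
  haveI := complement_isNilpotent hCN hc hK hfpf
  exact Frobenius.isCyclic_of_nilpotent_odd (isFrobeniusComplement_of_fpf hc hK hE hfpf) hodd

/-- Elements of order prime to `p` act fixed-point-freely on a self-centralising normal
`p`-subgroup. -/
theorem fpf_of_centralizer_le (hCN : Cfsg.IsCNGroup G) {p : ℕ} [Fact p.Prime] {P₀ : Subgroup G}
    [P₀.Normal] (hP : IsPGroup p P₀) (hC : centralizer (P₀ : Set G) ≤ P₀) {a : G}
    (ha : (orderOf a).Coprime p) (ha1 : a ≠ 1) {x : G} (hx : x ∈ P₀) (hax : a * x = x * a) :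
    x = 1 := by
  by_contra hx1
  set C := P₀ ⊓ centralizer ({a} : Set G) with hCdef
  have hxC : x ∈ C := ⟨hx, mem_centralizer_singleton_iff.mpr hax.symm⟩
  have hco : ∀ y ∈ P₀, (orderOf a).Coprime (orderOf y) := by
    intro y hy
    obtain ⟨k, hk⟩ := IsPGroup.iff_orderOf.mp hP ⟨y, hy⟩
    rw [Subgroup.orderOf_mk] at hk
    rw [hk]
    exact ha.pow_right k
  -- the centraliser of `C` in `P₀` lies in `C`
  have hself : ∀ k ∈ P₀, (∀ c ∈ C, k * c = c * k) → k ∈ C := by
    intro k hk hkc
    refine ⟨hk, mem_centralizer_singleton_iff.mpr ?_⟩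
    exact (H41.commute_of_coprime_of_isNilpotent (hCN x hx1)
      (mem_centralizer_singleton_iff.mpr hax) (mem_centralizer_singleton_iff.mpr (hkc x hxC))
      (hco k hk)).symm
  have hgrow : ∀ n ∈ P₀, n ∈ normalizer (C : Set G) → n ∈ C := by
    intro n hn hnN
    set k := n⁻¹ * (a * n * a⁻¹) with hk
    have hkP : k ∈ P₀ := mul_mem (inv_mem hn) (Subgroup.Normal.conj_mem ‹P₀.Normal› n hn a)
    have hkc : ∀ c ∈ C, k * c = c * k := by
      intro c hc
      have hca : Commute a c := (mem_centralizer_singleton_iff.mp hc.2).symm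
      have hn' : Commute a (n * c * n⁻¹) :=
        (mem_centralizer_singleton_iff.mp ((mem_normalizer_iff.mp hnN c).mp hc).2).symm
      have e : (a * n * a⁻¹) * c * (a * n * a⁻¹)⁻¹ = n * c * n⁻¹ := by
        calc (a * n * a⁻¹) * c * (a * n * a⁻¹)⁻¹ = a * (n * (a⁻¹ * c * a) * n⁻¹) * a⁻¹ := by group
          _ = a * (n * c * n⁻¹) * a⁻¹ := by rw [mul_assoc a⁻¹ c a, ← hca.eq, inv_mul_cancel_left]
          _ = n * c * n⁻¹ := by rw [hn'.eq, mul_inv_cancel_right]
      rw [← mul_inv_eq_iff_eq_mul]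
      calc k * c * k⁻¹ = n⁻¹ * ((a * n * a⁻¹) * c * (a * n * a⁻¹)⁻¹) * n := by rw [hk]; group
        _ = c := by rw [e]; group
    refine ⟨hn, mem_centralizer_singleton_iff.mpr ?_⟩
    exact (H42.stab_step (k := k) (by rw [hk]; group)
      (mem_centralizer_singleton_iff.mp (hself k hkP hkc).2).symm (hco k hkP)).symm
  have hCP : C = P₀ := by
    by_contra hne
    obtain ⟨y, hy⟩ := PGroups.exists_mem_notMem_normalizer hP (H := C.subgroupOf P₀) (K := ⊤)
      (lt_top_iff_ne_top.mpr fun h =>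
        hne (le_antisymm inf_le_left (subgroupOf_eq_top.mp h)))
    refine hy.2.1 (hgrow y y.2 ?_)
    rw [mem_normalizer_iff]
    intro w
    constructor
    · intro hw
      exact (mem_normalizer_iff.mp hy.2.2 ⟨w, hw.1⟩).mp hw
    · intro hw
      have hwP : w ∈ P₀ := by
        have := Subgroup.Normal.conj_mem ‹P₀.Normal› _ hw.1 (y : G)⁻¹
        simpa [mul_assoc] using this
      exact (mem_normalizer_iff.mp hy.2.2 ⟨w, hwP⟩).mpr hw
  have haP : a ∈ P₀ := hC (mem_centralizer_iff.mpr fun y hy =>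
    mem_centralizer_singleton_iff.mp (hCP.ge hy).2)
  obtain ⟨k, hk⟩ := IsPGroup.iff_orderOf.mp hP ⟨a, haP⟩
  rw [Subgroup.orderOf_mk] at hk
  rcases k with _ | k
  · exact ha1 (orderOf_eq_one_iff.mp (by simpa using hk))
  · rw [hk, Nat.coprime_pow_left_iff (Nat.succ_pos k), Nat.coprime_self] at ha
    exact (Fact.out : p.Prime).ne_one ha

/-- With a non-trivial `p`-core and a non-normal Sylow `p`-subgroup the `p'`-core is trivial. -/
theorem pPrimeCore_eq_bot (hCN : Cfsg.IsCNGroup G) {p : ℕ} [Fact p.Prime]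
    (hO : Cfsg.pCore p G ≠ ⊥) (S : Sylow p G) (hS : ¬ (S : Subgroup G).Normal) :
    Cfsg.pPrimeCore p G = ⊥ := by
  refine (eq_bot_iff_forall _).mpr fun u hu => by_contra fun hu1 => hS ?_
  have hle : ∀ R : Sylow p G, (R : Subgroup G) ≤ centralizer ({u} : Set G) := by
    intro R
    have hPR := Cores.pCore_le_sylow (p := p) R
    obtain ⟨c, hc, hc1⟩ := (bot_or_exists_ne_one _).resolve_left
      (PGroups.inf_center_ne_bot R.isPGroup' ((Cfsg.pCore p G).subgroupOf R)
        (by rw [ne_eq, subgroupOf_eq_bot, disjoint_iff, inf_eq_left.mpr hPR]; exact hO))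
    intro y hy
    refine mem_centralizer_singleton_iff.mpr
      (H41.commute_of_coprime_of_isNilpotent (hCN (c : G) fun h => hc1 (Subtype.ext h))
        (mem_centralizer_singleton_iff.mpr (congrArg Subtype.val (mem_center_iff.mp hc.2 ⟨y, hy⟩)))
        (mem_centralizer_singleton_iff.mpr (Cores.commute_pCore_pPrimeCore hc.1 hu).symm) ?_)
    obtain ⟨k, hk⟩ := IsPGroup.iff_orderOf.mp R.isPGroup' ⟨y, hy⟩
    rw [Subgroup.orderOf_mk] at hk
    rw [hk]
    exact ((Cores.coprime_card_pPrimeCore.coprime_dvd_left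
      (Subgroup.orderOf_dvd_natCard _ hu)).symm).pow_left k
  haveI := hCN u hu1
  have hn := sylow_normal (inferInstance : Group.IsNilpotent (centralizer ({u} : Set G)))
    (S.subtype (hle S))
  haveI := Sylow.unique_of_normal _ hn
  have hall : ∀ R : Sylow p G, R = S := fun R =>
    Sylow.subtype_injective (hP := hle R) (hQ := hle S) (Subsingleton.elim _ _)
  refine normalizer_eq_top_iff.mp (eq_top_iff.mpr fun g _ => ?_)
  exact (Sylow.smul_eq_iff_mem_normalizer).mp (hall (g • S))

theorem centralizer_pCore_le' (hCN : Cfsg.IsCNGroup G) [Group.IsSolvable G] {p : ℕ} [Fact p.Prime]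
    (hO : Cfsg.pCore p G ≠ ⊥) (S : Sylow p G) (hS : ¬ (S : Subgroup G).Normal) :
    centralizer (Cfsg.pCore p G : Set G) ≤ Cfsg.pCore p G :=
  Cores.centralizer_pCore_le Cores.isPSolvable_of_isSolvable (pPrimeCore_eq_bot hCN hO S hS)

/-- Conjugations on a cyclic normal subgroup commute. -/
theorem commutator_le_centralizer {Q : Type*} [Group Q] (K : Subgroup Q) [K.Normal] [IsCyclic K] :
    commutator Q ≤ centralizer (K : Set Q) := by
  obtain ⟨g, hg⟩ := IsCyclic.exists_generator (α := K)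
  have hact : ∀ a : Q, ∃ i : ℤ, a * g * a⁻¹ = (g : Q) ^ i := fun a => by
    obtain ⟨i, hi⟩ := mem_zpowers_iff.1
      (hg ⟨_, Subgroup.Normal.conj_mem inferInstance (g : Q) g.2 a⟩)
    exact ⟨i, by simpa using (congrArg Subtype.val hi).symm⟩
  rw [_root_.commutator_def, commutator_le]
  intro a _ b _
  obtain ⟨i, hi⟩ := hact a
  obtain ⟨j, hj⟩ := hact b
  have e1 : ∀ (c : Q) (k : ℤ), c * (g : Q) ^ k * c⁻¹ = (c * g * c⁻¹) ^ k := fun c k => by
    rw [← MulAut.conj_apply, ← MulAut.conj_apply, map_zpow]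
  have e : (a * b) * g * (a * b)⁻¹ = (b * a) * g * (b * a)⁻¹ := by
    calc (a * b) * g * (a * b)⁻¹ = a * (b * g * b⁻¹) * a⁻¹ := by group
      _ = (g : Q) ^ (i * j) := by rw [hj, e1, hi, zpow_mul]
      _ = b * (a * g * a⁻¹) * b⁻¹ := by rw [hi, e1, hj, ← zpow_mul, mul_comm j]
      _ = _ := by group
  have e2 : Commute ⁅a, b⁆ ((b * a) * g * (b * a)⁻¹) := by
    show _ = _
    calc ⁅a, b⁆ * ((b * a) * g * (b * a)⁻¹)
        = ((a * b) * g * (a * b)⁻¹) * ⁅a, b⁆ := by rw [commutatorElement_def]; group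
      _ = _ := by rw [e]
  -- the conjugate of the generator is again a generator
  rw [mem_centralizer_iff]
  intro k hk
  have hk' : (b * a)⁻¹ * k * (b * a) ∈ K := by
    simpa using Subgroup.Normal.conj_mem ‹K.Normal› k hk (b * a)⁻¹
  obtain ⟨m, hm⟩ := mem_zpowers_iff.1 (hg ⟨_, hk'⟩)
  have hm' : (g : Q) ^ m = (b * a)⁻¹ * k * (b * a) := by simpa using congrArg Subtype.val hm
  have hk2 : k = ((b * a) * g * (b * a)⁻¹) ^ m := by rw [← e1, hm']; group
  rw [hk2]
  exact (e2.zpow_right m).eq.symm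

/-- A solvable CN-group of odd order with non-trivial `p`-core, whose Sylow `p`-subgroup lies in
the commutator subgroup, has a normal Sylow `p`-subgroup. -/
theorem sylow_normal_of_le_commutator (hCN : Cfsg.IsCNGroup G) [Group.IsSolvable G]
    (hodd : Odd (Nat.card G)) {p : ℕ} [hp : Fact p.Prime] (hO : Cfsg.pCore p G ≠ ⊥)
    (S : Sylow p G) (hS : (S : Subgroup G) ≤ commutator G) : (S : Subgroup G).Normal := by
  by_contra hSn
  set P₀ := Cfsg.pCore p G with hP₀
  have hC := centralizer_pCore_le' hCN hO S hSn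
  have hP₀p : IsPGroup p P₀ := Cores.pCore_isPGroup
  set K := Cfsg.fittingSubgroup (G ⧸ P₀) with hK
  have hKp : (Nat.card K).Coprime p := by
    refine Nat.Coprime.coprime_dvd_left (card_dvd_of_le ?_) Cores.coprime_card_pPrimeCore
    rw [hK, Cores.iSup_pCore_eq_fittingSubgroup]
    refine (Cores.iSup_pCore_le_sup p).trans ?_
    exact sup_le le_rfl ((Cores.pCore_quotient_pCore (p := p) (G := G)).le.trans bot_le)
  set K' := K.comap (QuotientGroup.mk' P₀) with hK'
  have hP₀K' : P₀ ≤ K' := by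
    rw [hK']
    exact (QuotientGroup.ker_mk' P₀).ge.trans (comap_mono bot_le)
  set f : K' →* G ⧸ P₀ := (QuotientGroup.mk' P₀).comp K'.subtype with hf
  have hker : f.ker = P₀.subgroupOf K' := by
    rw [hf, ← MonoidHom.comap_ker, QuotientGroup.ker_mk']; rfl
  have hrange : f.range = K := by
    rw [hf, MonoidHom.range_comp, range_subtype, hK',
      map_comap_eq_self_of_surjective (QuotientGroup.mk'_surjective P₀)]
  have hidx : (P₀.subgroupOf K').index = Nat.card K := by
    rw [← hker, index_ker, hrange]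
  obtain ⟨n, hn⟩ := IsPGroup.iff_card.mp hP₀p
  have hcop : (Nat.card (P₀.subgroupOf K')).Coprime (P₀.subgroupOf K').index := by
    rw [hidx, Nat.card_congr (subgroupOfEquivOfLe hP₀K').toEquiv, hn]
    exact hKp.symm.pow_left n
  obtain ⟨A, hA⟩ := exists_right_complement'_of_coprime hcop
  have hfpf : ∀ a ∈ A, a ≠ 1 → P₀.subgroupOf K' ⊓ centralizer ({a} : Set K') = ⊥ := by
    intro a ha ha1
    refine (eq_bot_iff_forall _).mpr fun x hx => Subtype.ext ?_
    refine fpf_of_centralizer_le hCN hP₀p hC ?_ (fun h => ha1 (Subtype.ext h)) hx.1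
      (congrArg Subtype.val (mem_centralizer_singleton_iff.mp hx.2).symm)
    refine hKp.coprime_dvd_left ?_
    rw [Subgroup.orderOf_coe, ← hidx, ← hA.symm.index_eq_card.symm]
    exact Subgroup.orderOf_dvd_natCard A ha
  haveI : (P₀.subgroupOf K').Normal := inferInstance
  haveI hAc : IsCyclic A := complement_isCyclic (isCN_subgroup hCN K') hA
    (by rw [ne_eq, subgroupOf_eq_bot, disjoint_iff, inf_eq_left.mpr hP₀K']; exact hO) hfpf
    (hodd.of_dvd_nat ((card_subgroup_dvd_card A).trans (card_subgroup_dvd_card K')))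
  haveI : IsCyclic K := by
    rw [← hrange]
    refine isCyclic_of_surjective (f.rangeRestrict.comp A.subtype) ?_
    rintro ⟨_, x, rfl⟩
    obtain ⟨⟨u, a⟩, rfl⟩ := hA.2 x
    refine ⟨a, Subtype.ext ?_⟩
    show f a = f (u.1 * a.1)
    rw [map_mul, MonoidHom.mem_ker.mp (hker.ge u.2), one_mul]
  haveI : Group.IsSolvable (G ⧸ P₀) := inferInstance
  have hQ : commutator (G ⧸ P₀) ≤ K :=
    (commutator_le_centralizer K).trans Cores.centralizer_fittingSubgroup_le
  have hSP : (S : Subgroup G).map (QuotientGroup.mk' P₀) ≤ K := by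
    refine le_trans ((map_mono hS).trans ?_) hQ
    rw [_root_.commutator_def, map_commutator, _root_.commutator_def]
    exact commutator_mono le_top le_top
  have hbot : (S : Subgroup G).map (QuotientGroup.mk' P₀) = ⊥ := by
    obtain ⟨m, hm⟩ := IsPGroup.iff_card.mp (S.isPGroup'.map (QuotientGroup.mk' P₀))
    refine card_eq_one.mp (Nat.eq_one_of_dvd_coprimes (hKp.symm.pow_left m) ?_ (card_dvd_of_le hSP))
    rw [hm]
  refine hSn ?_
  have he : (S : Subgroup G) = P₀ :=
    le_antisymm (by rw [Subgroup.map_eq_bot_iff, QuotientGroup.ker_mk'] at hbot; exact hbot)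
      (Cores.pCore_le_sylow S)
  rw [he]
  infer_instance

end Cfsg.Agent.OddOrder.CN
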