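import Cfsg.Prelude.Def_OddOrder
import Cfsg.Prelude.Def_OddOrderLocal
import Cfsg.Agent.OddOrder.CN.Solvable
import Cfsg.Agent.Thompson.ZJFusion
import Cfsg.Agent.H41.ZJSolvable
import Cfsg.Agent.Fusion.Basic
import Cfsg.Agent.H31.Basic
import Cfsg.Agent.Cores.PCore

/-!
# Minimal simple CN-groups of odd order: the local structure

All maximal nilpotent subgroups are TI Hall subgroups and their normalisers are the maximal
subgroups, which are Frobenius groups.
-/

set_option autoImplicit false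
set_option linter.style.haveILetI false
set_option linter.unusedSectionVars false

namespace Cfsg.Agent.OddOrder.CN

open Subgroup
open scoped commutatorElement Pointwise

variable {G : Type*} [Group G] [Finite G]

theorem normal_eq_bot_or_top (hG : Cfsg.IsMinSimpleOddOrder G) (N : Subgroup G) [hN : N.Normal] :
    N = ⊥ ∨ N = ⊤ :=
  hG.2.1.eq_bot_or_eq_top_of_normal N hN

theorem not_comm (hG : Cfsg.IsMinSimpleOddOrder G) : ¬ ∀ a b : G, a * b = b * a := fun h =>
  hG.2.2.1 ⟨⟨h⟩⟩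

theorem commutator_eq_top (hG : Cfsg.IsMinSimpleOddOrder G) : commutator G = ⊤ := by
  refine (normal_eq_bot_or_top hG _).resolve_left fun h => not_comm hG fun a b => ?_
  refine commutatorElement_eq_one_iff_mul_comm.mp ?_
  rw [← mem_bot, ← h]
  exact commutator_mem_commutator (mem_top a) (mem_top b)

theorem not_isSolvable (hG : Cfsg.IsMinSimpleOddOrder G) : ¬ Group.IsSolvable G := by
  intro h
  haveI := hG.2.1.toNontrivial
  exact (Group.IsSolvable.commutator_lt_top_of_nontrivial G).ne (commutator_eq_top hG)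

theorem ne_top_of_isNilpotent (hG : Cfsg.IsMinSimpleOddOrder G) {H : Subgroup G}
    (hH : Group.IsNilpotent H) : H ≠ ⊤ := by
  intro h
  subst h
  haveI : Group.IsNilpotent G := isNilpotent_top_iff.mp hH
  exact not_isSolvable hG inferInstance

theorem normalizer_ne_top (hG : Cfsg.IsMinSimpleOddOrder G) {H : Subgroup G} (h1 : H ≠ ⊥)
    (h2 : H ≠ ⊤) : normalizer (H : Set G) ≠ ⊤ := fun h => by
  haveI := normalizer_eq_top_iff.mp h
  exact (normal_eq_bot_or_top hG H).elim h1 h2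

theorem ne_two (hG : Cfsg.IsMinSimpleOddOrder G) {p : ℕ} (hp : p ∣ Nat.card G) : p ≠ 2 := by
  rintro rfl
  exact Nat.not_even_iff_odd.mpr hG.1 (even_iff_two_dvd.mpr hp)

theorem not_hasSection_qd (hG : Cfsg.IsMinSimpleOddOrder G) {p : ℕ} [hp : Fact p.Prime]
    (hp2 : p ≠ 2) : ¬ Thompson.HasSection (Cfsg.qd p) G := by
  intro h
  obtain ⟨M, φ, hφ⟩ := Thompson.hasSection_sl2_of_qd h
  have hne : (-1 : Matrix.SpecialLinearGroup (Fin 2) (ZMod p)) ≠ 1 := by
    intro e
    have h1 := congrArg (fun A : Matrix.SpecialLinearGroup (Fin 2) (ZMod p) =>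
      (A : Matrix (Fin 2) (Fin 2) (ZMod p)) 0 0) e
    simp at h1
    have h2 : ((2 : ℕ) : ZMod p) = 0 := by push_cast; linear_combination -h1
    rw [ZMod.natCast_eq_zero_iff, Nat.prime_dvd_prime_iff_eq hp.out Nat.prime_two] at h2
    exact hp2 h2
  have h2 : orderOf (-1 : Matrix.SpecialLinearGroup (Fin 2) (ZMod p)) = 2 :=
    orderOf_eq_prime (by rw [sq, neg_mul_neg, one_mul]) hne
  have h3 : 2 ∣ Nat.card M := h2 ▸ (_root_.orderOf_dvd_natCard _).trans (card_dvd_of_surjective φ hφ)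
  exact ne_two hG (h3.trans (card_subgroup_dvd_card M)) rfl

/-- A Sylow subgroup lies in the commutator subgroup of the normaliser of its `ZJ`. -/
theorem sylow_le_commutator (hG : Cfsg.IsMinSimpleOddOrder G) {p : ℕ} [Fact p.Prime]
    (S : Sylow p G) (hne : (S : Subgroup G) ≠ ⊥) :
    (S : Subgroup G) ≤ ⁅normalizer (Thompson.zjay 0 (S : Subgroup G) : Set G),
      normalizer (Thompson.zjay 0 (S : Subgroup G) : Set G)⁆ := by
  have hp2 : p ≠ 2 := ne_two hG
    ((PGroups.dvd_card_of_ne_bot S.isPGroup' (H := ⊤) (by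
      haveI := (nontrivial_iff_ne_bot _).mpr hne
      exact top_ne_bot)).trans (by rw [Subgroup.card_top]; exact card_subgroup_dvd_card _))
  have hc : Fusion.ControlsElementFusion (normalizer (Thompson.zjay 0 (S : Subgroup G) : Set G))
      (S : Subgroup G) := by
    intro x hx g hg
    obtain ⟨n, hn, h⟩ := Thompson.strongFusion_zjay hp2 (e := 0) (.inl rfl) G
      (not_hasSection_qd hG hp2) S {x} g (Set.singleton_subset_iff.mpr hx)
      (by rintro _ ⟨a, rfl, rfl⟩; exact hg)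
    exact ⟨n, hn, h x rfl⟩
  have h := Fusion.commutator_inf_eq_of_controls S (Thompson.le_normalizer_zjay 0 _) hc
  rw [commutator_eq_top hG, top_inf_eq] at h
  exact h.le.trans inf_le_left

/-- `N` contains two `p`-subgroups generating a subgroup that is not a `p`-group. -/
def HasTwo (p : ℕ) (N : Subgroup G) : Prop :=
  ∃ A B : Subgroup G, A ≤ N ∧ B ≤ N ∧ IsPGroup p A ∧ IsPGroup p B ∧ ¬ IsPGroup p ↥(A ⊔ B)

theorem HasTwo.mono {p : ℕ} {N N' : Subgroup G} (h : HasTwo p N) (hle : N ≤ N') :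
    HasTwo p N' := by
  obtain ⟨A, B, hA, hB, h⟩ := h
  exact ⟨A, B, hA.trans hle, hB.trans hle, h⟩

theorem HasTwo.not_normal {p : ℕ} [Fact p.Prime] {N : Subgroup G} (h : HasTwo p N)
    (R : Sylow p N) : ¬ (R : Subgroup N).Normal := by
  intro hn
  haveI := Sylow.unique_of_normal R hn
  obtain ⟨A, B, hA, hB, hAp, hBp, hnot⟩ := h
  have key : ∀ C : Subgroup G, C ≤ N → IsPGroup p C → C ≤ (R : Subgroup N).map N.subtype := by
    intro C hC hCp
    obtain ⟨Q, hQ⟩ := (hCp.comap_of_injective N.subtype N.subtype_injective).exists_le_sylow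
    rw [Subsingleton.elim Q R] at hQ
    intro x hx
    exact ⟨⟨x, hC hx⟩, hQ hx, rfl⟩
  exact hnot ((R.isPGroup'.map N.subtype).to_le (sup_le (key A hA hAp) (key B hB hBp)))

theorem pCore_subgroup_ne_bot {p : ℕ} {N D : Subgroup G} (hD : IsPGroup p D) (hne : D ≠ ⊥)
    (hle : D ≤ N) (hnorm : N ≤ normalizer (D : Set G)) : Cfsg.pCore p N ≠ ⊥ := by
  haveI : (D.subgroupOf N).Normal := normal_subgroupOf_of_le_normalizer hnorm
  intro h
  have h1 : D.subgroupOf N ≤ Cfsg.pCore p N :=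
    Cores.le_pCore (hD.comap_of_injective N.subtype N.subtype_injective)
  rw [h, le_bot_iff, subgroupOf_eq_bot, disjoint_iff, inf_eq_left.mpr hle] at h1
  exact hne h1

/-- Sylow subgroups meet trivially. -/
theorem sylow_inf_eq_bot (hG : Cfsg.IsMinSimpleOddOrder G) (hCN : Cfsg.IsCNGroup G) {p : ℕ}
    [hp : Fact p.Prime] (S T : Sylow p G) (hST : S ≠ T) :
    (S : Subgroup G) ⊓ (T : Subgroup G) = ⊥ := by
  classical
  by_contra hD0
  -- a maximal intersection of two distinct Sylow subgroups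
  obtain ⟨⟨S₀, T₀⟩, hne0, hmaxD⟩ := Set.exists_max_image
    {q : Sylow p G × Sylow p G | q.1 ≠ q.2}
    (fun q => Nat.card ↥((q.1 : Subgroup G) ⊓ (q.2 : Subgroup G))) (Set.toFinite _) ⟨(S, T), hST⟩
  set D := (S₀ : Subgroup G) ⊓ (T₀ : Subgroup G) with hDdef
  have hne0' : S₀ ≠ T₀ := hne0
  have hDp : IsPGroup p D := S₀.isPGroup'.to_le inf_le_left
  have hD1 : D ≠ ⊥ := by
    intro h
    have h1 := hmaxD (S, T) hST
    simp only [h, card_bot] at h1
    exact hD0 (card_eq_one.mp (le_antisymm h1 Nat.card_pos))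
  have hDtop : D ≠ ⊤ := fun h => hne0' (Sylow.ext ((top_le_iff.mp (h ▸ inf_le_left)).trans
    (top_le_iff.mp (h ▸ (inf_le_right : D ≤ T₀))).symm))
  have hmax' : ∀ R : Sylow p G, R ≠ S₀ → ∀ X : Subgroup G, X ≤ R → X ≤ S₀ → D ≤ X → X = D := by
    intro R hR X hXR hXS hDX
    refine (eq_of_le_of_card_ge hDX ?_).symm
    exact le_trans (Nat.le_of_dvd Nat.card_pos (card_dvd_of_le (le_inf hXR hXS)))
      (hmaxD (R, S₀) hR)
  have hmax'' : ∀ R : Sylow p G, R ≠ T₀ → ∀ X : Subgroup G, X ≤ R → X ≤ T₀ → D ≤ X → X = D := by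
    intro R hR X hXR hXS hDX
    refine (eq_of_le_of_card_ge hDX ?_).symm
    exact le_trans (Nat.le_of_dvd Nat.card_pos (card_dvd_of_le (le_inf hXR hXS)))
      (hmaxD (R, T₀) hR)
  have hgrow : ∀ (U : Sylow p G), D < (U : Subgroup G) →
      D < (U : Subgroup G) ⊓ normalizer (D : Set G) := by
    intro U hlt
    refine lt_of_le_of_ne (le_inf hlt.le le_normalizer) fun heq => ?_
    obtain ⟨y, hy⟩ := PGroups.exists_mem_notMem_normalizer U.isPGroup' (H := D.subgroupOf U)
      (K := ⊤) (lt_top_iff_ne_top.mpr fun h => hlt.not_ge (subgroupOf_eq_top.mp h))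
    refine hy.2.1 ?_
    show (y : G) ∈ D
    rw [heq]
    refine ⟨y.2, ?_⟩
    refine mem_normalizer_iff.mpr fun w => ⟨fun hw => ?_, fun hw => ?_⟩
    · exact (mem_normalizer_iff.mp hy.2.2 ⟨w, hlt.le hw⟩).mp hw
    · have hwU : w ∈ (U : Subgroup G) := by
        have := mul_mem (mul_mem (inv_mem y.2) (hlt.le hw)) y.2
        simpa [mul_assoc] using this
      exact (mem_normalizer_iff.mp hy.2.2 ⟨w, hwU⟩).mpr hw
  have hltS : D < (S₀ : Subgroup G) := lt_of_le_of_ne inf_le_left fun h =>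
    hne0' (Sylow.ext (S₀.is_maximal' T₀.isPGroup' (h ▸ (inf_le_right : D ≤ T₀))).symm)
  have hltT : D < (T₀ : Subgroup G) := lt_of_le_of_ne inf_le_right fun h =>
    hne0' (Sylow.ext (T₀.is_maximal' S₀.isPGroup' (h ▸ (inf_le_left : D ≤ S₀))))
  have htwo : HasTwo p (normalizer (D : Set G)) := by
    refine ⟨(S₀ : Subgroup G) ⊓ normalizer (D : Set G), (T₀ : Subgroup G) ⊓ normalizer (D : Set G),
      inf_le_right, inf_le_right, S₀.isPGroup'.to_le inf_le_left, T₀.isPGroup'.to_le inf_le_left,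
      fun hp' => ?_⟩
    obtain ⟨R, hR⟩ := hp'.exists_le_sylow
    have e1 : R = S₀ := by_contra fun h => (hgrow S₀ hltS).ne'
      (hmax' R h _ (le_sup_left.trans hR) inf_le_left (hgrow S₀ hltS).le)
    have e2 : R = T₀ := by_contra fun h => (hgrow T₀ hltT).ne'
      (hmax'' R h _ (le_sup_right.trans hR) inf_le_left (hgrow T₀ hltT).le)
    exact hne0' (e1 ▸ e2)
  -- among the local subgroups with two Sylow subgroups take the largest `p`-part
  obtain ⟨N, ⟨hNtop, hNcore, hNtwo⟩, hNmax⟩ := Set.exists_max_image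
    {N : Subgroup G | N ≠ ⊤ ∧ Cfsg.pCore p N ≠ ⊥ ∧ HasTwo p N}
    (fun N => (Nat.card N).factorization p) (Set.toFinite _)
    ⟨normalizer (D : Set G), normalizer_ne_top hG hD1 hDtop,
      pCore_subgroup_ne_bot hDp hD1 le_normalizer le_rfl, htwo⟩
  haveI : Group.IsSolvable N := hG.2.2.2 N hNtop
  obtain ⟨R⟩ : Nonempty (Sylow p N) := inferInstance
  have hO := pPrimeCore_eq_bot (isCN_subgroup hCN N) hNcore R (hNtwo.not_normal R)
  have hoddN : Odd (Nat.card N) := hG.1.of_dvd_nat (card_subgroup_dvd_card N)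
  set R' := (R : Subgroup N).map N.subtype with hR'
  have hR'p : IsPGroup p R' := R.isPGroup'.map _
  have hR'ne : R' ≠ ⊥ := by
    intro h
    rw [hR', map_eq_bot_iff_of_injective _ N.subtype_injective] at h
    exact hNtwo.not_normal R (by rw [h]; infer_instance)
  have hp2 : p ≠ 2 := ne_two hG
    ((PGroups.dvd_card_of_ne_bot hR'p (H := ⊤) (by
      haveI := (nontrivial_iff_ne_bot _).mpr hR'ne
      exact top_ne_bot)).trans (by rw [Subgroup.card_top]; exact card_subgroup_dvd_card _))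
  set Z := Thompson.zjay 0 R' with hZ
  have hNZ : N ≤ normalizer (Z : Set G) := by
    have hn := H41.zjay_normal_of_odd hp2 hoddN hO R
    intro x hx
    refine Thompson.mem_normalizer_of_map_conj ?_
    rw [hZ, hR', Thompson.zjay_map _ N.subtype_injective, Subgroup.map_map]
    ext y
    constructor
    · rintro ⟨w, hw, rfl⟩
      exact ⟨⟨x, hx⟩ * w * (⟨x, hx⟩)⁻¹, hn.conj_mem w hw _, by simp⟩
    · rintro ⟨w, hw, rfl⟩
      refine ⟨(⟨x, hx⟩)⁻¹ * w * ⟨x, hx⟩, ?_, by simp [mul_assoc]⟩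
      simpa using hn.conj_mem w hw (⟨x, hx⟩)⁻¹
  have hZne : Z ≠ ⊥ := Thompson.zjay_ne_bot hR'p hR'ne (.inl rfl)
  have hZtop : Z ≠ ⊤ := fun h => hNtop (top_le_iff.mp
    (h ▸ (Thompson.zjay_le.trans (map_subtype_le _) : Z ≤ N)))
  have hN1 : normalizer (Z : Set G) ∈ {N : Subgroup G | N ≠ ⊤ ∧ Cfsg.pCore p N ≠ ⊥ ∧ HasTwo p N} :=
    ⟨normalizer_ne_top hG hZne hZtop,
      pCore_subgroup_ne_bot (hR'p.to_le Thompson.zjay_le) hZne le_normalizer le_rfl,
      hNtwo.mono hNZ⟩
  obtain ⟨U, hU⟩ := hR'p.exists_le_sylow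
  have heq : R' = (U : Subgroup G) := by
    by_contra hne
    set A := (U : Subgroup G) ⊓ normalizer (R' : Set G) with hA
    obtain ⟨y, hy⟩ := PGroups.exists_mem_notMem_normalizer U.isPGroup' (H := R'.subgroupOf U)
      (K := ⊤) (lt_top_iff_ne_top.mpr fun h => hne (le_antisymm hU (subgroupOf_eq_top.mp h)))
    have hyA : (y : G) ∈ A := by
      refine ⟨y.2, mem_normalizer_iff.mpr fun w => ⟨fun hw => ?_, fun hw => ?_⟩⟩
      · exact (mem_normalizer_iff.mp hy.2.2 ⟨w, hU hw⟩).mp hw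
      · have hwU : w ∈ (U : Subgroup G) := by
          have := mul_mem (mul_mem (inv_mem y.2) (hU hw)) y.2
          simpa [mul_assoc] using this
        exact (mem_normalizer_iff.mp hy.2.2 ⟨w, hwU⟩).mpr hw
    have hlt : R' < A := lt_of_le_of_ne (le_inf hU le_normalizer) fun h => hy.2.1 (h ▸ hyA : (y : G) ∈ R')
    have hAN1 : A ≤ normalizer (Z : Set G) := inf_le_right.trans
      ((Thompson.normalizer_le_normalizer_jay 0 _).trans
        (Thompson.normalizer_jay_le_normalizer_zjay 0 _))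
    obtain ⟨k, hk⟩ := IsPGroup.iff_card.mp (U.isPGroup'.to_le (inf_le_left : A ≤ U))
    have h1 : k ≤ (Nat.card ↥(normalizer (Z : Set G))).factorization p :=
      (hp.out.pow_dvd_iff_le_factorization Nat.card_pos.ne').mp (hk ▸ card_dvd_of_le hAN1)
    have h2 : Nat.card R' = p ^ (Nat.card N).factorization p := by
      rw [hR', card_map_of_injective N.subtype_injective, R.card_eq_multiplicity]
    have h3 : Nat.card A ≤ Nat.card R' := by
      rw [hk, h2]
      exact Nat.pow_le_pow_right hp.out.pos (h1.trans (hNmax _ hN1))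
    exact hlt.ne (eq_of_le_of_card_ge hlt.le h3)
  -- now `normalizer Z` has no `p`-quotient, so its Sylow subgroup is normal
  set M := normalizer (Z : Set G) with hM
  haveI : Group.IsSolvable M := hG.2.2.2 M hN1.1
  have hUM : (U : Subgroup G) ≤ M := heq ▸ Thompson.le_normalizer_zjay 0 R'
  refine hN1.2.2.not_normal (U.subtype hUM)
    (sylow_normal_of_le_commutator (isCN_subgroup hCN M) (hG.1.of_dvd_nat (card_subgroup_dvd_card M))
      hN1.2.1 _ ?_)
  have h := sylow_le_commutator hG U (heq ▸ hR'ne)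
  rw [← heq, ← hZ, ← hM, heq] at h
  intro x hx
  have hxU : (x : G) ∈ ⁅M, M⁆ := h hx
  rw [← map_subtype_commutator] at hxU
  obtain ⟨w, hw, hwx⟩ := hxU
  exact (Subtype.ext hwx : w = x) ▸ hw

theorem mem_sylow_of_mem {H : Subgroup G} (hH : Group.IsNilpotent H) {p : ℕ} [Fact p.Prime]
    (S : Sylow p G) (hS : (S : Subgroup G) ≤ H) {x : G} (hx : x ∈ H) {k : ℕ}
    (hk : orderOf x = p ^ k) : x ∈ (S : Subgroup G) := by
  haveI := Sylow.unique_of_normal _ (sylow_normal hH (S.subtype hS))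
  have hz : IsPGroup p (zpowers (⟨x, hx⟩ : H)) :=
    IsPGroup.of_card (n := k) (by rw [Nat.card_zpowers, Subgroup.orderOf_mk, hk])
  obtain ⟨Q, hQ⟩ := hz.exists_le_sylow
  have := Subsingleton.elim Q (S.subtype hS) ▸ hQ (mem_zpowers _)
  rw [Sylow.coe_subtype, mem_subgroupOf] at this
  exact this

/-- Every maximal nilpotent subgroup is TI. -/
theorem ti (hG : Cfsg.IsMinSimpleOddOrder G) (hCN : Cfsg.IsCNGroup G) {H : Subgroup G}
    (hH : IsMaxNil H) (g : G) (hg : H.map (MulAut.conj g).toMonoidHom ≠ H) :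
    H ⊓ H.map (MulAut.conj g).toMonoidHom = ⊥ := by
  set H₂ := H.map (MulAut.conj g).toMonoidHom with hH₂def
  have hH₂ : IsMaxNil H₂ := isMaxNil_map_conj hH g
  by_contra hne
  obtain ⟨p, hp, hpd⟩ := Nat.exists_prime_and_dvd (mt card_eq_one.mp hne)
  haveI := Fact.mk hp
  obtain ⟨x, hx⟩ := exists_prime_orderOf_dvd_card' p hpd
  rw [← Subgroup.orderOf_coe] at hx
  obtain ⟨S₁, hS₁, hS₁ne⟩ := exists_sylow_le hCN hH (hpd.trans (card_dvd_of_le inf_le_left))
  obtain ⟨S₂, hS₂, -⟩ := exists_sylow_le hCN hH₂ (hpd.trans (card_dvd_of_le inf_le_right))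
  have h1 := mem_sylow_of_mem hH.1 S₁ hS₁ x.2.1 (k := 1) (by rw [pow_one]; exact hx)
  have h2 := mem_sylow_of_mem hH₂.1 S₂ hS₂ x.2.2 (k := 1) (by rw [pow_one]; exact hx)
  have heq : S₁ = S₂ := by
    by_contra hne'
    have h3 : (x : G) = 1 := mem_bot.mp ((sylow_inf_eq_bot hG hCN S₁ S₂ hne') ▸ ⟨h1, h2⟩)
    rw [h3, orderOf_one] at hx
    exact hp.ne_one hx.symm
  exact hg (eq_of_common_sylow hCN hH hH₂ S₁ hS₁ne hS₁ (heq ▸ hS₂)).symm

theorem centralizer_le_maxNil (hG : Cfsg.IsMinSimpleOddOrder G) (hCN : Cfsg.IsCNGroup G)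
    {H : Subgroup G} (hH : IsMaxNil H) {x : G} (hx : x ∈ H) (hx1 : x ≠ 1) :
    centralizer ({x} : Set G) ≤ H :=
  centralizer_le hCN hH (ti hG hCN hH) hx hx1

theorem eq_of_mem (hG : Cfsg.IsMinSimpleOddOrder G) (hCN : Cfsg.IsCNGroup G)
    {H₁ H₂ : Subgroup G} (h₁ : IsMaxNil H₁) (h₂ : IsMaxNil H₂) {x : G} (hx1 : x ≠ 1)
    (hx₁ : x ∈ H₁) (hx₂ : x ∈ H₂) : H₁ = H₂ := by
  obtain ⟨z, -, hz1, hzle⟩ := exists_center h₁ fun h => hx1 (mem_bot.mp (h ▸ hx₁))
  have hz2 : z ∈ H₂ := centralizer_le_maxNil hG hCN h₂ hx₂ hx1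
    (mem_centralizer_singleton_iff.mpr (mem_centralizer_singleton_iff.mp (hzle hx₁)).symm)
  exact (h₁.2 H₂ h₂.1 (hzle.trans (centralizer_le_maxNil hG hCN h₂ hz2 hz1))).symm

theorem mem_normalizer_of_mem (hG : Cfsg.IsMinSimpleOddOrder G) (hCN : Cfsg.IsCNGroup G)
    {H : Subgroup G} (hH : IsMaxNil H) {x g : G} (hx1 : x ≠ 1) (hx : x ∈ H)
    (hgx : g * x * g⁻¹ ∈ H) : g ∈ normalizer (H : Set G) := by
  refine Thompson.mem_normalizer_of_map_conj (eq_of_mem hG hCN (isMaxNil_map_conj hH g) hH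
    (x := g * x * g⁻¹) ?_ ?_ hgx)
  · exact fun h => hx1 (conj_eq_one_iff.mp h)
  · exact ⟨x, hx, by simp⟩

theorem ne_bot (hG : Cfsg.IsMinSimpleOddOrder G) {H : Subgroup G} (hH : IsMaxNil H) : H ≠ ⊥ := by
  haveI := hG.2.1.toNontrivial
  exact hH.ne_bot

theorem normalizer_maxNil_ne_top (hG : Cfsg.IsMinSimpleOddOrder G) {H : Subgroup G}
    (hH : IsMaxNil H) : normalizer (H : Set G) ≠ ⊤ :=
  normalizer_ne_top hG (ne_bot hG hH) (ne_top_of_isNilpotent hG hH.1)

theorem normalizer_maxNil_ne_self (hG : Cfsg.IsMinSimpleOddOrder G) (hCN : Cfsg.IsCNGroup G)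
    {H : Subgroup G} (hH : IsMaxNil H) : normalizer (H : Set G) ≠ H := by
  intro hN
  haveI := hH.1
  haveI : Nontrivial H := (nontrivial_iff_ne_bot H).mpr (ne_bot hG hH)
  haveI : Group.IsSolvable H := inferInstance
  refine (Group.IsSolvable.commutator_lt_top_of_nontrivial H).ne
    (Components.eq_top_of_forall_sylow _ fun q hq => ?_)
  haveI : Fact q.Prime := hq
  by_cases hqd : q ∣ Nat.card H
  · obtain ⟨S, hS, hSne⟩ := exists_sylow_le hCN hH hqd
    refine ⟨S.subtype hS, ?_⟩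
    have hle : normalizer (Thompson.zjay 0 (S : Subgroup G) : Set G) ≤ H := by
      intro g hg
      obtain ⟨z, hz, hz1⟩ := (bot_or_exists_ne_one _).resolve_left
        (Thompson.zjay_ne_bot S.isPGroup' hSne (.inl rfl) (e := 0))
      rw [← hN]
      exact mem_normalizer_of_mem hG hCN hH hz1 (hS (Thompson.zjay_le hz))
        (hS (Thompson.zjay_le ((mem_normalizer_iff.mp hg z).mp hz)))
    intro x hx
    have hxH : (x : G) ∈ ⁅H, H⁆ := commutator_mono hle hle (sylow_le_commutator hG S hSne hx)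
    rw [← map_subtype_commutator] at hxH
    obtain ⟨w, hw, hwx⟩ := hxH
    exact (Subtype.ext hwx : w = x) ▸ hw
  · obtain ⟨Q⟩ : Nonempty (Sylow q H) := inferInstance
    refine ⟨Q, ?_⟩
    obtain ⟨k, hk⟩ := IsPGroup.iff_card.mp Q.isPGroup'
    rcases k with _ | k
    · rw [show (Q : Subgroup H) = ⊥ from card_eq_one.mp (by simpa using hk)]; exact bot_le
    · exact absurd ((dvd_pow_self q (Nat.succ_ne_zero k)).trans
        (hk ▸ card_subgroup_dvd_card (Q : Subgroup H))) hqd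

/-- The Frobenius complement of a maximal nilpotent subgroup in its normaliser. -/
theorem exists_compl (hG : Cfsg.IsMinSimpleOddOrder G) (hCN : Cfsg.IsCNGroup G)
    {H : Subgroup G} (hH : IsMaxNil H) :
    ∃ E : Subgroup G, Cfsg.IsComplIn H E (normalizer (H : Set G)) ∧ E ≠ ⊥ ∧
      ∀ e ∈ E, e ≠ 1 → H ⊓ centralizer ({e} : Set G) = ⊥ := by
  set M := normalizer (H : Set G) with hM
  haveI : (H.subgroupOf M).Normal := normal_subgroupOf_of_le_normalizer le_rfl
  have hcop : (Nat.card (H.subgroupOf M)).Coprime (H.subgroupOf M).index := by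
    rw [Nat.card_congr (subgroupOfEquivOfLe le_normalizer).toEquiv]
    exact (coprime_index hCN hH).coprime_dvd_right (relIndex_dvd_index_of_le le_normalizer)
  obtain ⟨E₀, hE₀⟩ := exists_right_complement'_of_coprime hcop
  set E := E₀.map M.subtype with hE
  have hd : H ⊓ E = ⊥ := by
    refine (eq_bot_iff_forall _).mpr fun x hx => ?_
    obtain ⟨w, hw, rfl⟩ := hx.2
    have : w ∈ (⊥ : Subgroup M) := hE₀.disjoint.eq_bot ▸ ⟨hx.1, hw⟩
    rw [mem_bot] at this
    simp [this]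
  have hmul : ∀ m ∈ M, ∃ a ∈ H, ∃ b ∈ E, m = a * b := by
    intro m hm
    obtain ⟨⟨a, b⟩, hab⟩ := hE₀.2 ⟨m, hm⟩
    exact ⟨(a.1 : G), a.2, (b.1 : G), ⟨b.1, b.2, rfl⟩, (congrArg Subtype.val hab).symm⟩
  refine ⟨E, ⟨le_normalizer, map_subtype_le _, hd, hmul⟩, ?_, ?_⟩
  · intro h
    refine normalizer_maxNil_ne_self hG hCN hH (le_antisymm (fun m hm => ?_) le_normalizer)
    obtain ⟨a, ha, b, hb, rfl⟩ := hmul m hm
    rw [h, mem_bot] at hb
    rw [hb, mul_one]; exact ha
  · intro e he he1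
    refine (eq_bot_iff_forall _).mpr fun h hh => by_contra fun h1 => he1 ?_
    have : e ∈ H := centralizer_le_maxNil hG hCN hH hh.1 h1
      (mem_centralizer_singleton_iff.mpr (mem_centralizer_singleton_iff.mp hh.2).symm)
    exact mem_bot.mp (hd ▸ ⟨this, he⟩)

/-- Every maximal subgroup is the normaliser of a maximal nilpotent subgroup. -/
theorem exists_maxNil_of_isCoatom (hG : Cfsg.IsMinSimpleOddOrder G) (hCN : Cfsg.IsCNGroup G)
    {M : Subgroup G} (hM : IsCoatom M) :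
    ∃ K : Subgroup G, IsMaxNil K ∧ normalizer (K : Set G) = M := by
  haveI : Group.IsSolvable M := hG.2.2.2 M hM.1
  have hMne : M ≠ ⊥ := by
    intro h
    refine not_comm hG fun a b => ?_
    by_cases ha : a = 1
    · simp [ha]
    have htop : zpowers a = ⊤ := hM.2 _ (h ▸ bot_lt_iff_ne_bot.mpr (mt zpowers_eq_bot.mp ha))
    obtain ⟨i, rfl⟩ := mem_zpowers_iff.mp (htop ▸ mem_top b : b ∈ zpowers a)
    exact ((Commute.refl a).zpow_right i).eq
  haveI : Nontrivial M := (nontrivial_iff_ne_bot M).mpr hMne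
  obtain ⟨V, -, hV, hVne, -, hVc, -⟩ := H31.exists_minNormal_elementary (G := M)
    (K := ⊤) inferInstance top_ne_bot
  have hVn : Group.IsNilpotent (V.map M.subtype) := by
    refine Components.isNilpotent_map _ _ ?_
    haveI : IsMulCommutative V := ⟨⟨fun a b => Subtype.ext (hVc a a.2 b b.2)⟩⟩
    open scoped IsMulCommutative in exact CommGroup.isNilpotent
  obtain ⟨K, hK, hVK⟩ := exists_isMaxNil_ge hVn
  obtain ⟨v, hv, hv1⟩ := (bot_or_exists_ne_one _).resolve_left hVne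
  have hle : M ≤ normalizer (K : Set G) := fun g hg =>
    mem_normalizer_of_mem hG hCN hK (x := (v : G)) (fun h => hv1 (Subtype.ext h))
      (hVK ⟨v, hv, rfl⟩) (hVK ⟨⟨g, hg⟩ * v * ⟨g, hg⟩⁻¹, hV.conj_mem v hv _, rfl⟩)
  exact ⟨K, hK, by
    rcases hM.le_iff.mp hle with h | h
    · exact absurd h (normalizer_maxNil_ne_top hG hK)
    · exact h⟩

/-- The quotient of the normaliser by a maximal nilpotent subgroup is abelian. -/
theorem commutatorElement_mem_of_mem (hG : Cfsg.IsMinSimpleOddOrder G) (hCN : Cfsg.IsCNGroup G)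
    {K : Subgroup G} (hK : IsMaxNil K) {a b : G} (ha : a ∈ normalizer (K : Set G))
    (hb : b ∈ normalizer (K : Set G)) : ⁅a, b⁆ ∈ K := by
  obtain ⟨M, hKM⟩ : ∃ M, normalizer (K : Set G) = M := ⟨_, rfl⟩
  rw [hKM] at ha hb
  -- `M / K` is cyclic
  obtain ⟨E, hE, -, hfpf⟩ := exists_compl hG hCN hK
  rw [hKM] at hE
  haveI : (K.subgroupOf M).Normal := normal_subgroupOf_of_le_normalizer hKM.ge
  have hc : IsComplement' (K.subgroupOf M) (E.subgroupOf M) := by
    refine isComplement'_of_disjoint_and_mul_eq_univ ?_ ?_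
    · rw [disjoint_iff, eq_bot_iff_forall]
      exact fun x hx => Subtype.ext (mem_bot.mp (hE.2.2.1 ▸ ⟨hx.1, hx.2⟩))
    · refine Set.eq_univ_of_forall fun m => ?_
      obtain ⟨a, ha, b, hb, hab⟩ := hE.2.2.2 m m.2
      exact Set.mem_mul.mpr ⟨⟨a, hE.1 ha⟩, ha, ⟨b, hE.2.1 hb⟩, hb, Subtype.ext hab.symm⟩
  haveI : IsCyclic (E.subgroupOf M) := by
    refine complement_isCyclic (isCN_subgroup hCN M) hc ?_ ?_
      (hG.1.of_dvd_nat ((card_subgroup_dvd_card _).trans (card_subgroup_dvd_card M)))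
    · rw [ne_eq, subgroupOf_eq_bot, disjoint_iff, inf_eq_left.mpr hE.1]; exact ne_bot hG hK
    · intro e he he1
      refine (eq_bot_iff_forall _).mpr fun x hx => Subtype.ext ?_
      exact mem_bot.mp ((hfpf e he fun h => he1 (Subtype.ext h)) ▸
        ⟨hx.1, mem_centralizer_singleton_iff.mpr
          (congrArg Subtype.val (mem_centralizer_singleton_iff.mp hx.2))⟩)
  have hcomm : ∀ a b : M ⧸ K.subgroupOf M, a * b = b * a := by
    have e := (hc.symm.QuotientMulEquiv).symm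
    intro a b
    obtain ⟨x, rfl⟩ := e.surjective a
    obtain ⟨y, rfl⟩ := e.surjective b
    rw [← map_mul, ← map_mul, (IsCyclic.isMulCommutative : IsMulCommutative (E.subgroupOf M)).is_comm.comm]
  have h1 : (QuotientGroup.mk' (K.subgroupOf M)) ⁅(⟨a, ha⟩ : M), ⟨b, hb⟩⁆ = 1 := by
    rw [map_commutatorElement, commutatorElement_eq_one_iff_mul_comm]
    exact hcomm _ _
  exact (QuotientGroup.eq_one_iff (N := K.subgroupOf M) _).mp h1

/-- The normaliser of a maximal nilpotent subgroup is a maximal subgroup. -/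
theorem isCoatom_normalizer (hG : Cfsg.IsMinSimpleOddOrder G) (hCN : Cfsg.IsCNGroup G)
    {H : Subgroup G} (hH : IsMaxNil H) : IsCoatom (normalizer (H : Set G)) := by
  obtain ⟨M, hM, hHM⟩ := (eq_top_or_exists_le_coatom (normalizer (H : Set G))).resolve_left
    (normalizer_maxNil_ne_top hG hH)
  obtain ⟨K, hK, hKM⟩ := exists_maxNil_of_isCoatom hG hCN hM
  by_cases hHK : H = K
  · subst hHK; rw [hKM]; exact hM
  exfalso
  obtain ⟨h₀, hh₀, hh1⟩ := (bot_or_exists_ne_one _).resolve_left (ne_bot hG hH)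
  have htriv : ∀ k ∈ K, k ∈ normalizer (H : Set G) → k = 1 := by
    intro k hk hkn
    by_contra hk1
    have h1 : k * h₀ * k⁻¹ * h₀⁻¹ ∈ H :=
      mul_mem ((mem_normalizer_iff.mp hkn h₀).mp hh₀) (inv_mem hh₀)
    have h2 : k * h₀ * k⁻¹ * h₀⁻¹ ∈ K := by
      have h3 : h₀ ∈ normalizer (K : Set G) := hKM ▸ hHM (le_normalizer hh₀)
      have := mul_mem hk ((mem_normalizer_iff.mp h3 k⁻¹).mp (inv_mem hk))
      simpa [mul_assoc] using this
    have h4 : k * h₀ * k⁻¹ * h₀⁻¹ = 1 := by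
      by_contra h5
      exact hHK (eq_of_mem hG hCN hH hK h5 h1 h2)
    have h6 : k ∈ centralizer ({h₀} : Set G) := mem_centralizer_singleton_iff.mpr
      (mul_inv_eq_iff_eq_mul.mp (mul_inv_eq_one.mp h4))
    exact hHK (eq_of_mem hG hCN hH hK hk1 (centralizer_le_maxNil hG hCN hH hh₀ hh1 h6) hk)
  have hab : ∀ a ∈ normalizer (H : Set G), ∀ b ∈ normalizer (H : Set G), a * b = b * a := by
    intro a ha b hb
    refine commutatorElement_eq_one_iff_mul_comm.mp (htriv _ ?_ ?_)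
    · exact commutatorElement_mem_of_mem hG hCN hK (hKM ▸ hHM ha) (hKM ▸ hHM hb)
    · rw [commutatorElement_def]
      exact mul_mem (mul_mem (mul_mem ha hb) (inv_mem ha)) (inv_mem hb)
  haveI : IsMulCommutative ↥(normalizer (H : Set G)) :=
    ⟨⟨fun a b => Subtype.ext (hab a a.2 b b.2)⟩⟩
  have hnil : Group.IsNilpotent ↥(normalizer (H : Set G)) := by
    open scoped IsMulCommutative in exact CommGroup.isNilpotent
  exact normalizer_maxNil_ne_self hG hCN hH (hH.2 _ hnil le_normalizer)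

theorem fittingHallOf_normalizer (hCN : Cfsg.IsCNGroup G) {H : Subgroup G} (hH : IsMaxNil H) :
    Cfsg.fittingHallOf (normalizer (H : Set G)) = H := by
  set M := normalizer (H : Set G) with hM
  obtain ⟨-, hnil, -⟩ := H41.fittingHall_spec M
  haveI : (H.subgroupOf M).Normal := normal_subgroupOf_of_le_normalizer le_rfl
  have hle : H.subgroupOf M ≤ Cfsg.fittingHall M := le_sSup ⟨inferInstance,
    (by
      haveI := hH.1
      exact Group.nilpotent_of_mulEquiv (subgroupOfEquivOfLe (le_normalizer : H ≤ M)).symm), by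
      rw [Nat.card_congr (subgroupOfEquivOfLe (le_normalizer : H ≤ M)).toEquiv]
      exact (coprime_index hCN hH).coprime_dvd_right (relIndex_dvd_index_of_le le_normalizer)⟩
  refine hH.2 _ (Components.isNilpotent_map _ _ hnil) fun x hx => ?_
  exact ⟨⟨x, le_normalizer hx⟩, hle hx, rfl⟩

theorem map_normalizer_conj {H : Subgroup G} (g : G) :
    (normalizer (H : Set G)).map (MulAut.conj g).toMonoidHom =
      normalizer ((H.map (MulAut.conj g).toMonoidHom : Subgroup G) : Set G) :=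
  map_equiv_normalizer_eq H (MulAut.conj g)

/-- Maximal nilpotent subgroups are conjugate or of coprime orders. -/
theorem conj_or_coprime (hG : Cfsg.IsMinSimpleOddOrder G) (hCN : Cfsg.IsCNGroup G)
    {H₁ H₂ : Subgroup G} (h₁ : IsMaxNil H₁) (h₂ : IsMaxNil H₂) :
    (∃ g : G, H₂ = H₁.map (MulAut.conj g).toMonoidHom) ∨
      (Nat.card H₁).Coprime (Nat.card H₂) := by
  by_contra hcon
  rw [not_or, Nat.Prime.not_coprime_iff_dvd] at hcon
  obtain ⟨hnc, p, hp, hp1, hp2⟩ := hcon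
  haveI := Fact.mk hp
  obtain ⟨S₁, hS₁, hS₁ne⟩ := exists_sylow_le hCN h₁ hp1
  obtain ⟨S₂, hS₂, hS₂ne⟩ := exists_sylow_le hCN h₂ hp2
  obtain ⟨g, rfl⟩ := MulAction.exists_smul_eq G S₁ S₂
  refine hnc ⟨g, eq_of_common_sylow hCN h₂ (isMaxNil_map_conj h₁ g) (g • S₁) hS₂ne hS₂ ?_⟩
  exact map_mono hS₁

/-- No subgroup is a three-step group. -/
theorem not_threeStep (hG : Cfsg.IsMinSimpleOddOrder G) (hCN : Cfsg.IsCNGroup G)
    (H : Subgroup G) (p : ℕ) : ¬ Cfsg.IsThreeStepGroup p H := by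
  rintro ⟨hO, A, hA1, -, -, hAp, hN, htop, -, hfpf, hout⟩
  have hHne : H ≠ ⊥ := by
    rintro rfl
    exact hO (Subgroup.eq_bot_of_subsingleton _)
  have hHtop : H ≠ ⊤ := by
    intro h
    subst h
    rcases normal_eq_bot_or_top hG ((Cfsg.pCore p (⊤ : Subgroup G)).map (⊤ : Subgroup G).subtype)
      (hN := Subgroup.Normal.map inferInstance _ fun g => ⟨⟨g, mem_top g⟩, rfl⟩) with h | h
    · exact hO ((map_eq_bot_iff_of_injective _ (⊤ : Subgroup G).subtype_injective).mp h)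
    · refine htop (top_le_iff.mp (le_trans (le_of_eq ?_) le_sup_left))
      refine (map_injective (⊤ : Subgroup G).subtype_injective ?_).symm
      rw [h, ← MonoidHom.range_eq_map, range_subtype]
  haveI : Group.IsSolvable H := hG.2.2.2 H hHtop
  obtain ⟨V, hVle, hV, hVne, -, hVc, -⟩ := H31.exists_minNormal_elementary
    (Cfsg.pCore_normal p H) hO
  have hVn : Group.IsNilpotent (V.map H.subtype) := by
    refine Components.isNilpotent_map _ _ ?_
    haveI : IsMulCommutative V := ⟨⟨fun a b => Subtype.ext (hVc a a.2 b b.2)⟩⟩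
    open scoped IsMulCommutative in exact CommGroup.isNilpotent
  obtain ⟨K, hK, hVK⟩ := exists_isMaxNil_ge hVn
  obtain ⟨v, hv, hv1⟩ := (bot_or_exists_ne_one _).resolve_left hVne
  have hvK : (v : G) ∈ K := hVK ⟨v, hv, rfl⟩
  have hnorm : ∀ y : H, (y : G) ∈ normalizer (K : Set G) := fun y =>
    mem_normalizer_of_mem hG hCN hK (x := (v : G)) (fun h => hv1 (Subtype.ext h))
      hvK (hVK ⟨y * v * y⁻¹, hV.conj_mem v hv _, rfl⟩)
  have hAK : ∀ a ∈ A, (a : G) ∈ K → a = 1 := by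
    intro a ha haK
    by_contra ha1
    refine hv1 (mem_bot.mp ((hfpf a ha ha1) ▸ ⟨hVle hv,
      mem_centralizer_singleton_iff.mpr (Subtype.ext ?_)⟩))
    refine H41.commute_of_coprime_of_isNilpotent hK.1 hvK haK ?_
    obtain ⟨k, hk⟩ := Cores.pCore_isPGroup (⟨v, hVle hv⟩ : Cfsg.pCore p H)
    refine Nat.Coprime.coprime_dvd_left (?_ : orderOf (v : G) ∣ p ^ k) ?_
    · rw [Subgroup.orderOf_coe]
      exact orderOf_dvd_of_pow_eq_one (congrArg Subtype.val hk)
    · refine (Nat.Coprime.pow_left k ?_)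
      exact hAp.symm.coprime_dvd_right (by
        rw [Subgroup.orderOf_coe]; exact Subgroup.orderOf_dvd_natCard A ha)
  obtain ⟨y, hy⟩ : ∃ y : H, y ∉ Cfsg.pCore p H ⊔ A := by
    by_contra h
    push Not at h
    exact htop (eq_top_iff.mpr fun y _ => h y)
  obtain ⟨a, ha, ha1⟩ := (bot_or_exists_ne_one _).resolve_left hA1
  refine hout y hy a ha ha1 ?_
  have h1 : y * a * y⁻¹ * a⁻¹ ∈ Cfsg.pCore p H ⊔ A :=
    mul_mem (hN.conj_mem a (mem_sup_right ha) y) (inv_mem (mem_sup_right ha))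
  obtain ⟨x, hx, b, hb, hxb⟩ := mem_sup_of_normal_left.mp h1
  have h2 : ((y * a * y⁻¹ * a⁻¹ : H) : G) ∈ K := by
    have := commutatorElement_mem_of_mem hG hCN hK (hnorm y) (hnorm a)
    simpa [commutatorElement_def] using this
  have hxK : (x : G) ∈ K := by
    have hc : (x : G) ∈ normalizer (K : Set G) := hnorm x
    by_contra hxK
    obtain ⟨k, hk⟩ := Cores.pCore_isPGroup (⟨x, hx⟩ : Cfsg.pCore p H)
    -- the images of `x` and of `b` in `N(K)/K` have coprime orders and product one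
    haveI : (K.subgroupOf (normalizer (K : Set G))).Normal :=
      normal_subgroupOf_of_le_normalizer le_rfl
    set q := QuotientGroup.mk' (K.subgroupOf (normalizer (K : Set G))) with hq
    have e0 : q ⟨x, hc⟩ * q ⟨b, hnorm b⟩ = 1 := by
      rw [← map_mul]
      refine (QuotientGroup.eq_one_iff (N := K.subgroupOf (normalizer (K : Set G))) _).mpr ?_
      rw [mem_subgroupOf]
      simpa [← hxb] using h2
    have e1 : (q ⟨x, hc⟩) ^ p ^ k = 1 := by
      rw [← map_pow]
      convert map_one q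
      exact Subtype.ext (by simpa using congrArg (fun t : Cfsg.pCore p H => ((t : H) : G)) hk)
    have e2 : orderOf (q ⟨x, hc⟩) ∣ Nat.card A := by
      rw [eq_inv_of_mul_eq_one_left e0, orderOf_inv]
      refine (orderOf_map_dvd q _).trans ?_
      rw [Subgroup.orderOf_mk, Subgroup.orderOf_coe]
      exact Subgroup.orderOf_dvd_natCard A hb
    have e3 : q ⟨x, hc⟩ = 1 := orderOf_eq_one_iff.mp
      (Nat.eq_one_of_dvd_coprimes (hAp.symm.pow_left k) (orderOf_dvd_of_pow_eq_one e1) e2)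
    exact hxK ((QuotientGroup.eq_one_iff (N := K.subgroupOf (normalizer (K : Set G))) _).mp e3)
  have hbK : (b : G) ∈ K := by
    have h3 := mul_mem (inv_mem hxK) h2
    rw [← hxb] at h3
    simpa using h3
  rw [← hxb, hAK b hb hbK, mul_one]
  exact hx

end Cfsg.Agent.OddOrder.CN
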