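import Cfsg.Agent.OddOrder.CN.MinSimple

/-!
# The covering of a minimal simple CN-group of odd order by Frobenius kernels
-/

set_option autoImplicit false
set_option linter.style.haveILetI false
set_option linter.unusedSectionVars false

namespace Cfsg.Agent.OddOrder.CN

open Subgroup

variable {G : Type*} [Group G] [Finite G]

theorem commute_primes (hG : Cfsg.IsMinSimpleOddOrder G) (hCN : Cfsg.IsCNGroup G) {p q r : ℕ}
    (hp : p.Prime) (hq : q.Prime) (hr : r.Prime) {x y y' z : G} (hx : x ≠ 1) (hy : y ≠ 1)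
    (hy' : y' ≠ 1) (hz : z ≠ 1) (hxp : IsPGroup p (zpowers x)) (hyq : IsPGroup q (zpowers y))
    (hy'q : IsPGroup q (zpowers y')) (hzr : IsPGroup r (zpowers z))
    (hxy : x * y = y * x) (hyz : y' * z = z * y') :
    ∃ x' z' : G, x' ≠ 1 ∧ z' ≠ 1 ∧ IsPGroup p (zpowers x') ∧ IsPGroup r (zpowers z') ∧
      x' * z' = z' * x' := by
  have key : ∀ (s t : ℕ), s.Prime → t.Prime → ∀ u w : G, u ≠ 1 → w ≠ 1 → IsPGroup s (zpowers u) →
      IsPGroup t (zpowers w) → u * w = w * u →
      ∃ H : Subgroup G, IsMaxNil H ∧ s ∣ Nat.card H ∧ t ∣ Nat.card H := by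
    intro s t hs ht u w hu hw hus hwt huw
    have hab : Group.IsNilpotent ↥(closure ({u, w} : Set G)) := by
      haveI : IsMulCommutative ↥(closure ({u, w} : Set G)) :=
        isMulCommutative_closure (by
          intro a ha b hb
          simp only [Set.mem_insert_iff, Set.mem_singleton_iff] at ha hb
          rcases ha with rfl | rfl <;> rcases hb with rfl | rfl <;> first | rfl | exact huw | exact huw.symm)
      open scoped IsMulCommutative in exact CommGroup.isNilpotent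
    obtain ⟨H, hH, hle⟩ := exists_isMaxNil_ge hab
    have hdvd : ∀ (e : ℕ) (a : G), e.Prime → a ≠ 1 → IsPGroup e (zpowers a) → a ∈ H →
        e ∣ Nat.card H := by
      intro e a he ha hea haH
      haveI := Fact.mk he
      refine (PGroups.dvd_card_of_ne_bot hea (H := ⊤) ?_).trans ?_
      · haveI := (nontrivial_iff_ne_bot _).mpr (mt zpowers_eq_bot.mp ha)
        exact top_ne_bot
      · rw [Subgroup.card_top]; exact card_dvd_of_le (zpowers_le.mpr haH)
    exact ⟨H, hH, hdvd s u hs hu hus (hle (subset_closure (by simp))),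
      hdvd t w ht hw hwt (hle (subset_closure (by simp)))⟩
  obtain ⟨H₁, hH₁, hp₁, hq₁⟩ := key p q hp hq x y hx hy hxp hyq hxy
  obtain ⟨H₂, hH₂, hq₂, hr₂⟩ := key q r hq hr y' z hy' hz hy'q hzr hyz
  have hr₁ : r ∣ Nat.card H₁ := by
    rcases conj_or_coprime hG hCN hH₁ hH₂ with ⟨g, rfl⟩ | h
    · rwa [card_map_of_injective (MulAut.conj g).injective] at hr₂
    · exact absurd (Nat.eq_one_of_dvd_coprimes h hq₁ hq₂) hq.ne_one
  haveI := Fact.mk hp
  haveI := Fact.mk hr
  obtain ⟨a, ha⟩ := exists_prime_orderOf_dvd_card' p hp₁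
  obtain ⟨b, hb⟩ := exists_prime_orderOf_dvd_card' r hr₁
  rw [← Subgroup.orderOf_coe] at ha hb
  have hpg : ∀ (e : ℕ) (g : G), orderOf g = e → IsPGroup e (zpowers g) := fun e g hg =>
    IsPGroup.of_card (n := 1) (by rw [Nat.card_zpowers, hg, pow_one])
  have hne : ∀ (e : ℕ) (g : G), e.Prime → orderOf g = e → g ≠ 1 := fun e g he hg h =>
    he.ne_one (by rw [← hg, h, orderOf_one])
  by_cases hpr : p = r
  · subst hpr
    exact ⟨a, a, hne p _ hp ha, hne p _ hp ha, hpg p _ ha, hpg p _ ha, rfl⟩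
  · refine ⟨a, b, hne p _ hp ha, hne r _ hr hb, hpg p _ ha, hpg r _ hb, ?_⟩
    refine H41.commute_of_coprime_of_isNilpotent hH₁.1 a.2 b.2 ?_
    rw [ha, hb]
    exact (Nat.coprime_primes hp hr).mpr hpr

theorem kernels_product (hG : Cfsg.IsMinSimpleOddOrder G) (hCN : Cfsg.IsCNGroup G) (k : ℕ)
    (Mrep : Fin k → Subgroup G) (hmax : ∀ i, IsCoatom (Mrep i))
    (hnc : ∀ i j, i ≠ j → ∀ g : G, Mrep j ≠ (Mrep i).map (MulAut.conj g).toMonoidHom)
    (hall : ∀ M : Subgroup G, IsCoatom M →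
      ∃ i, ∃ g : G, M = (Mrep i).map (MulAut.conj g).toMonoidHom) :
    (∀ i j, i ≠ j → (Nat.card (Cfsg.fittingHallOf (Mrep i))).Coprime
        (Nat.card (Cfsg.fittingHallOf (Mrep j)))) ∧
      ∏ i, Nat.card (Cfsg.fittingHallOf (Mrep i)) = Nat.card G ∧
      ∀ x : G, ∃ i, ∃ g : G, g * x * g⁻¹ ∈ Cfsg.fittingHallOf (Mrep i) := by
  choose K hK hKM using fun i => exists_maxNil_of_isCoatom hG hCN (hmax i)
  have hF : ∀ i, Cfsg.fittingHallOf (Mrep i) = K i := fun i => by
    rw [← hKM i]; exact fittingHallOf_normalizer hCN (hK i)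
  simp only [hF]
  have hcop : ∀ i j, i ≠ j → (Nat.card (K i)).Coprime (Nat.card (K j)) := by
    intro i j hij
    refine (conj_or_coprime hG hCN (hK i) (hK j)).resolve_left ?_
    rintro ⟨g, hg⟩
    apply hnc i j hij g
    rw [← hKM i, ← hKM j, hg, map_normalizer_conj]
  have hcov : ∀ H : Subgroup G, IsMaxNil H →
      ∃ i, ∃ g : G, H = (K i).map (MulAut.conj g).toMonoidHom := by
    intro H hH
    obtain ⟨i, g, hg⟩ := hall _ (isCoatom_normalizer hG hCN hH)
    refine ⟨i, g, ?_⟩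
    rw [← fittingHallOf_normalizer hCN hH, hg, ← hKM i, map_normalizer_conj,
      fittingHallOf_normalizer hCN (isMaxNil_map_conj (hK i) g)]
  refine ⟨hcop, Nat.dvd_antisymm ?_ ?_, fun x => ?_⟩
  · refine Finset.prod_dvd_of_isRelPrime (fun i _ j _ hij => ?_) fun i _ => ?_
    · exact Nat.coprime_iff_isRelPrime.mp (hcop i j hij)
    · exact card_subgroup_dvd_card _
  · rw [Nat.dvd_iff_prime_pow_dvd_dvd]
    intro p n hp hpn
    haveI := Fact.mk hp
    obtain ⟨S⟩ : Nonempty (Sylow p G) := inferInstance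
    obtain ⟨H, hH, hSH⟩ := exists_isMaxNil_ge (A := (S : Subgroup G)) S.isPGroup'.isNilpotent
    obtain ⟨i, g, rfl⟩ := hcov H hH
    refine dvd_trans ?_ (Finset.dvd_prod_of_mem _ (Finset.mem_univ i))
    have h1 := card_dvd_of_le hSH
    rw [card_map_of_injective (MulAut.conj g).injective, S.card_eq_multiplicity] at h1
    exact (pow_dvd_pow p ((hp.pow_dvd_iff_le_factorization Nat.card_pos.ne').mp hpn)).trans h1
  · have hz : Group.IsNilpotent (zpowers x) := by
      open scoped IsMulCommutative in exact CommGroup.isNilpotent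
    obtain ⟨H, hH, hxH⟩ := exists_isMaxNil_ge hz
    obtain ⟨i, g, rfl⟩ := hcov H hH
    refine ⟨i, g⁻¹, ?_⟩
    simpa using mem_conj_map.mp (hxH (mem_zpowers x))

end Cfsg.Agent.OddOrder.CN
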